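import Mathlib

/-!
# Étale neighbourhoods isolating a geometric point of a quasi-finite algebra
-/

set_option autoImplicit false
set_option linter.unusedSectionVars false
set_option linter.style.haveILetI false

universe u

open TensorProduct Polynomial IntermediateField

namespace Groth.Agent.Weighting

theorem exists_eq_div {R : Type u} [CommRing R] (I : Ideal R) [I.IsPrime] (z : I.ResidueField) :
    ∃ x y : R, algebraMap R I.ResidueField y ≠ 0 ∧
      z = algebraMap R I.ResidueField x / algebraMap R I.ResidueField y := by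
  obtain ⟨a, b, hb, rfl⟩ := IsFractionRing.div_surjective (A := R ⧸ I) z
  obtain ⟨x, rfl⟩ := Ideal.Quotient.mk_surjective a
  obtain ⟨y, rfl⟩ := Ideal.Quotient.mk_surjective b
  refine ⟨x, y, ?_, by simp⟩
  simpa [Ideal.Quotient.eq_zero_iff_mem] using nonZeroDivisors.ne_zero hb

/-- Integral clearing of denominators of a monic polynomial over a residue field. -/
theorem exists_scaleRoots_mem_lifts {R : Type u} [CommRing R] (I : Ideal R) [I.IsPrime]
    (m : I.ResidueField[X]) (hm : m.Monic) :
    ∃ t : R, algebraMap R I.ResidueField t ≠ 0 ∧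
      m.scaleRoots (algebraMap R I.ResidueField t) ∈ Polynomial.lifts (algebraMap R I.ResidueField) := by
  choose x y hy hxy using fun i => exists_eq_div I (m.coeff i)
  refine ⟨∏ i ∈ Finset.range m.natDegree, y i, ?_, ?_⟩
  · rw [map_prod]; exact Finset.prod_ne_zero_iff.2 fun i _ => hy i
  · rw [Polynomial.lifts_iff_coeff_lifts]
    intro i
    rw [coeff_scaleRoots]
    rcases lt_trichotomy i m.natDegree with h | h | h
    · obtain ⟨k, hk⟩ := Nat.exists_eq_add_of_lt h
      refine ⟨x i * (∏ j ∈ (Finset.range m.natDegree).erase i, y j) *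
        (∏ j ∈ Finset.range m.natDegree, y j) ^ k, ?_⟩
      have he : m.natDegree - i = k + 1 := by omega
      rw [he, pow_succ', ← mul_assoc, hxy i,
        ← Finset.mul_prod_erase _ y (Finset.mem_range.2 h), map_mul, map_mul, map_mul, map_pow,
        map_mul]
      have := hy i
      field_simp
    · exact ⟨1, by simp [h, hm.coeff_natDegree]⟩
    · exact ⟨0, by simp [coeff_eq_zero_of_natDegree_lt h]⟩

variable {R S Ω : Type u} [CommRing R] [CommRing S] [Field Ω] [Algebra R S] [Algebra R Ω]

/-- After an étale extension, the kernel of a geometric point determines it. -/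
theorem exists_etale_point_of_ker [Algebra.QuasiFinite R S] (b : S →ₐ[R] Ω) :
    ∃ (R₁ : Type u) (_ : CommRing R₁) (_ : Algebra R R₁) (_ : Algebra.Etale R R₁) (a : R₁ →ₐ[R] Ω),
      ∀ b' : S →ₐ[R] Ω,
        RingHom.ker (Algebra.TensorProduct.lift a b' fun _ _ => .all _ _) =
          RingHom.ker (Algebra.TensorProduct.lift a b fun _ _ => .all _ _) → b' = b := by
  have hp : (RingHom.ker (algebraMap R Ω)).IsPrime := RingHom.ker_isPrime _
  have hq : (RingHom.ker b).IsPrime := RingHom.ker_isPrime _
  set p := RingHom.ker (algebraMap R Ω) with hp0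
  set q := RingHom.ker b with hq0
  haveI : q.LiesOver p := ⟨by ext x; simp [hp0, hq0]⟩
  letI := Localization.AtPrime.algebraOfLiesOver p q
  let K := p.ResidueField
  let L := q.ResidueField
  haveI : Module.Finite K L := inferInstance
  let jK : K →ₐ[R] Ω := Ideal.ResidueField.liftₐ p (Algebra.ofId R Ω) le_rfl
    (fun x hx => isUnit_iff_ne_zero.2 hx)
  have hlift : ∀ (b' : S →ₐ[R] Ω), RingHom.ker b' = q →
      ∃ j : L →+* Ω, (∀ s, j (algebraMap S L s) = b' s) ∧ j.comp (algebraMap K L) = jK.toRingHom := by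
    intro b' hb'
    refine ⟨Ideal.ResidueField.lift q b'.toRingHom hb'.ge
      (fun x hx => isUnit_iff_ne_zero.2 fun h => hx (hb'.le h)),
      fun s => Ideal.ResidueField.lift_algebraMap q _ _ _ s, ?_⟩
    refine Ideal.ResidueField.ringHom_ext ?_
    ext r
    simp only [RingHom.coe_comp, Function.comp_apply]
    rw [← IsScalarTower.algebraMap_apply R K L r, IsScalarTower.algebraMap_apply R S L r]
    exact ((Ideal.ResidueField.lift_algebraMap q _ _ _ _).trans (b'.commutes r)).trans
      (jK.commutes r).symm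
  obtain ⟨α₀, hα₀⟩ := Field.exists_primitive_element K (separableClosure K L)
  obtain ⟨m, hm⟩ : ∃ m, m = minpoly K (α₀ : L) := ⟨_, rfl⟩
  have hint : IsIntegral K (α₀ : L) := Algebra.IsIntegral.isIntegral _
  have hgen : K⟮(α₀ : L)⟯ = separableClosure K L := by
    rw [← IntermediateField.lift_adjoin_simple, hα₀, IntermediateField.lift_top]
  obtain ⟨t, ht, htl⟩ := exists_scaleRoots_mem_lifts p m (hm ▸ minpoly.monic hint)
  let tK : K := algebraMap R K t
  let α : L := algebraMap K L tK * α₀
  have hαgen : K⟮α⟯ = separableClosure K L := by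
    rw [← hgen]
    refine le_antisymm (adjoin_simple_le_iff.2 ?_) (adjoin_simple_le_iff.2 ?_)
    · exact mul_mem (IntermediateField.algebraMap_mem _ _) (mem_adjoin_simple_self K _)
    · have h0 : (α₀ : L) = algebraMap K L tK⁻¹ * α := by
        simp only [α]
        rw [← mul_assoc, ← map_mul, inv_mul_cancel₀ ht, map_one, one_mul]
      exact h0 ▸ mul_mem (IntermediateField.algebraMap_mem _ _) (mem_adjoin_simple_self K α)
  have hintα : IsIntegral K α := Algebra.IsIntegral.isIntegral _
  have hmin : minpoly K α = m.scaleRoots tK := by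
    refine (eq_of_monic_of_dvd_of_natDegree_le (minpoly.monic hintα)
      ((monic_scaleRoots_iff _).2 (hm ▸ minpoly.monic hint))
      (minpoly.dvd K α (scaleRoots_aeval_eq_zero (hm ▸ minpoly.aeval K _))) ?_).symm
    rw [natDegree_scaleRoots, hm, ← adjoin.finrank hint, ← adjoin.finrank hintα, hαgen, hgen]
  obtain ⟨F, hF, -, hFm⟩ := lifts_and_natDegree_eq_and_monic htl
    ((monic_scaleRoots_iff _).2 (hm ▸ minpoly.monic hint))
  have hsep : IsSeparable K α := by
    rw [← mem_separableClosure_iff, ← hαgen]; exact mem_adjoin_simple_self K α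
  obtain ⟨j, hj, hjK⟩ := hlift b rfl
  let P : StandardEtalePair R := ⟨F, hFm, derivative F, ⟨1, 0, 1, by simp⟩⟩
  have hFmap : F.map (algebraMap R K) = minpoly K α := hF.trans hmin.symm
  have hjα : ∀ G : R[X], j (aeval α (G.map (algebraMap R K))) = aeval (j α) G := by
    intro G
    rw [aeval_def, hom_eval₂, eval₂_map, aeval_def, hjK]
    congr 1
    exact jK.comp_algebraMap
  have hmap : P.HasMap (j α) := by
    refine ⟨?_, ?_⟩
    · rw [← hjα, hFmap, minpoly.aeval, map_zero]
    · rw [isUnit_iff_ne_zero, ← hjα, ← derivative_map, hFmap]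
      exact (map_ne_zero j).2 (Separable.aeval_derivative_ne_zero hsep (minpoly.aeval K α))
  refine ⟨P.Ring, inferInstance, inferInstance, inferInstance, P.lift (j α) hmap, fun b' hb' => ?_⟩
  set a := P.lift (j α) hmap with ha
  have hker : RingHom.ker b' = q := by
    ext s
    have := SetLike.ext_iff.1 hb' (1 ⊗ₜ s)
    simpa [hq0] using this
  obtain ⟨j', hj', hj'K⟩ := hlift b' hker
  obtain ⟨x, y, hy, hxy⟩ := exists_eq_div q α
  have hα : j' α = j α := by
    have h1 : (P.X ⊗ₜ[R] y - 1 ⊗ₜ[R] x : P.Ring ⊗[R] S) ∈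
        RingHom.ker (Algebra.TensorProduct.lift a b fun _ _ => .all _ _) := by
      have h : j α * b y = b x := by
        rw [← hj, ← hj, ← map_mul, hxy, div_mul_cancel₀ _ hy]
      simp [RingHom.mem_ker, ha, h]
    rw [← hb'] at h1
    have h2 : j α * b' y = b' x := by simpa [RingHom.mem_ker, ha, sub_eq_zero] using h1
    have hy' : j' (algebraMap S L y) ≠ 0 := (map_ne_zero j').2 hy
    rw [hxy, map_div₀, ← hxy, div_eq_iff hy', hj', hj']
    exact h2.symm
  letI : Algebra K Ω := jK.toRingHom.toAlgebra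
  let J : L →ₐ[K] Ω := ⟨j, fun k => DFunLike.congr_fun hjK k⟩
  let J' : L →ₐ[K] Ω := ⟨j', fun k => DFunLike.congr_fun hj'K k⟩
  have hsc : j'.comp (algebraMap (separableClosure K L) L) = j.comp (algebraMap (separableClosure K L) L) := by
    have : J'.comp (separableClosure K L).val = J.comp (separableClosure K L).val := by
      refine IntermediateField.algHom_ext_of_eq_adjoin K hαgen.symm fun z hz => ?_
      obtain rfl := Set.mem_singleton_iff.1 hz
      exact hα
    exact congrArg AlgHom.toRingHom this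
  have hjj : j' = j := IsPurelyInseparable.injective_comp_algebraMap (separableClosure K L) L Ω hsc
  ext s
  rw [← hj, ← hj', hjj]

/-- An étale neighbourhood in which a point becomes the only one of a finite clopen piece. -/
theorem exists_etale_isolating_ker [Algebra.FiniteType R S] [Algebra.QuasiFinite R S]
    (b : S →ₐ[R] Ω) :
    ∃ (R₂ : Type u) (_ : CommRing R₂) (_ : Algebra R R₂) (_ : Algebra.Etale R R₂) (a : R₂ →ₐ[R] Ω)
      (e : R₂ ⊗[R] S) (_ : IsIdempotentElem e), Module.Finite R₂ (Localization.Away e) ∧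
      Algebra.TensorProduct.lift a b (fun _ _ => .all _ _) e ≠ 0 ∧
      ∀ b' : S →ₐ[R] Ω, Algebra.TensorProduct.lift a b' (fun _ _ => .all _ _) e ≠ 0 →
        RingHom.ker b' = RingHom.ker b := by
  have hp : (RingHom.ker (algebraMap R Ω)).IsPrime := RingHom.ker_isPrime _
  have hq : (RingHom.ker b).IsPrime := RingHom.ker_isPrime _
  set p := RingHom.ker (algebraMap R Ω) with hp0
  set q := RingHom.ker b with hq0
  haveI : q.LiesOver p := ⟨by ext x; simp [hp0, hq0]⟩
  obtain ⟨R₂, _, _, _, P, _, _, e, he, P', _, _, hP'q, heP', hbij, hfin, huniq⟩ :=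
    Algebra.exists_etale_isIdempotentElem_forall_liesOver_eq p q
  let jK : p.ResidueField →ₐ[R] Ω := Ideal.ResidueField.liftₐ p (Algebra.ofId R Ω) le_rfl
    (fun x hx => isUnit_iff_ne_zero.2 hx)
  let φ := AlgEquiv.ofBijective (Ideal.ResidueField.mapₐ p P (Algebra.ofId R R₂) (P.over_def p)) hbij
  let a : R₂ →ₐ[R] Ω :=
    jK.comp (φ.symm.toAlgHom.comp (IsScalarTower.toAlgHom R R₂ P.ResidueField))
  have hker : RingHom.ker a = P := by
    ext x
    simp [a, RingHom.mem_ker]
  refine ⟨R₂, inferInstance, inferInstance, inferInstance, a, e, he, hfin, ?_, fun b' hb' => ?_⟩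
  · let c := Algebra.TensorProduct.lift a b fun _ _ => .all _ _
    haveI : (RingHom.ker c).IsPrime := RingHom.ker_isPrime _
    haveI : (RingHom.ker c).LiesOver P := ⟨by rw [← hker]; ext x; simp [c]⟩
    have heq : RingHom.ker c = P' := by
      refine Ideal.eq_of_comap_eq_comap_of_bijective_residueFieldMap hbij _ _ ?_
      rw [hP'q]
      ext x; simp [c, hq0]
    exact fun h => heP' (heq ▸ h)
  · let c := Algebra.TensorProduct.lift a b' fun _ _ => .all _ _
    haveI : (RingHom.ker c).IsPrime := RingHom.ker_isPrime _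
    haveI : (RingHom.ker c).LiesOver P := ⟨by rw [← hker]; ext x; simp [c]⟩
    have heq := huniq (RingHom.ker c) inferInstance inferInstance hb'
    rw [← hP'q, ← heq]
    ext x; simp [c]

/-- An étale neighbourhood in which a geometric point of a quasi-finite algebra becomes the only
geometric point of a finite clopen piece. -/
theorem exists_etale_isolating [Algebra.FiniteType R S] [Algebra.QuasiFinite R S]
    (b : S →ₐ[R] Ω) :
    ∃ (R' : Type u) (_ : CommRing R') (_ : Algebra R R') (_ : Algebra.Etale R R') (a : R' →ₐ[R] Ω)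
      (e : R' ⊗[R] S) (_ : IsIdempotentElem e), Module.Finite R' (Localization.Away e) ∧
      Algebra.TensorProduct.lift a b (fun _ _ => .all _ _) e ≠ 0 ∧
      ∀ b' : S →ₐ[R] Ω, Algebra.TensorProduct.lift a b' (fun _ _ => .all _ _) e ≠ 0 → b' = b := by
  obtain ⟨R₁, _, _, _, a₁, h₁⟩ := exists_etale_point_of_ker b
  letI : Algebra R₁ Ω := a₁.toRingHom.toAlgebra
  haveI : IsScalarTower R R₁ Ω := .of_algebraMap_eq fun r => (a₁.commutes r).symm
  let up : (S →ₐ[R] Ω) → (R₁ ⊗[R] S →ₐ[R₁] Ω) := fun f =>
    Algebra.TensorProduct.lift (Algebra.ofId R₁ Ω) f fun _ _ => .all _ _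
  have hup : ∀ f : S →ₐ[R] Ω, RingHom.ker (up f) =
      RingHom.ker (Algebra.TensorProduct.lift a₁ f fun _ _ => .all _ _) := by
    intro f
    ext z
    exact Iff.rfl
  obtain ⟨R₂, _, _, _, a₂, e, he, hfin, he1, he2⟩ := exists_etale_isolating_ker (up b)
  letI : Algebra R R₂ := ((algebraMap R₁ R₂).comp (algebraMap R R₁)).toAlgebra
  haveI : IsScalarTower R R₁ R₂ := .of_algebraMap_eq' rfl
  haveI : Algebra.Etale R R₂ := Algebra.Etale.comp R R₁ R₂
  let ψ : R₂ ⊗[R₁] (R₁ ⊗[R] S) ≃ₐ[R₂] R₂ ⊗[R] S := Algebra.TensorProduct.cancelBaseChange R R₁ R₂ R₂ S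
  have key : ∀ f : S →ₐ[R] Ω,
      Algebra.TensorProduct.lift (a₂.restrictScalars R) f (fun _ _ => .all _ _) (ψ e) =
        Algebra.TensorProduct.lift a₂ (up f) (fun _ _ => .all _ _) e := by
    intro f
    have : ((Algebra.TensorProduct.lift (a₂.restrictScalars R) f fun _ _ => .all _ _).comp
          (ψ.toAlgHom.restrictScalars R)).toRingHom =
        (Algebra.TensorProduct.lift a₂ (up f) fun _ _ => .all _ _).toRingHom := by
      refine Algebra.TensorProduct.ringHom_ext ?_ ?_
      · ext r; simp [ψ, up, Algebra.TensorProduct.one_def]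
      · refine Algebra.TensorProduct.ringHom_ext ?_ ?_
        · ext r
          simp [ψ, up, Algebra.smul_def]
        · ext s; simp [ψ, up]
    exact DFunLike.congr_fun this e
  refine ⟨R₂, inferInstance, inferInstance, inferInstance, a₂.restrictScalars R, ψ e,
    he.map ψ.toAlgHom, ?_, (key b).symm ▸ he1, fun b' hb' => h₁ b' ?_⟩
  · haveI := hfin
    let ψ' : Localization.Away e ≃ₐ[R₂] Localization.Away (ψ e) :=
      IsLocalization.algEquivOfAlgEquiv (M := Submonoid.powers e) (T := Submonoid.powers (ψ e))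
        (Localization.Away e) (Localization.Away (ψ e)) ψ (Submonoid.map_powers _ _)
    exact Module.Finite.equiv ψ'.toLinearEquiv
  · rw [← hup, ← hup]
    exact he2 _ (key b' ▸ hb')

end Groth.Agent.Weighting
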