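import Groth.Agent.Weighting.Geom
import Groth.Agent.Weighting.Algebra

/-!
# Étale local decomposition of quasi-finite morphisms by geometric points
-/

set_option autoImplicit false
set_option linter.unusedSectionVars false
set_option linter.style.haveILetI false

universe u

open CategoryTheory CategoryTheory.Limits AlgebraicGeometry TensorProduct

namespace Groth.Agent.Weighting

variable {Ω : Type u} [Field Ω]

instance locallyQuasiFinite_of_etale {X Y : Scheme.{u}} (k : X ⟶ Y) [Etale k] : LocallyQuasiFinite k := by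
  rw [HasRingHomProperty.iff_appLE (P := @LocallyQuasiFinite)]
  intro U V e
  have h := HasRingHomProperty.appLE (P := @Etale) k inferInstance U V e
  algebraize [(k.appLE U V e).hom]
  exact RingHom.quasiFinite_algebraMap.2 inferInstance

theorem pt_SpecMap_mem_basicOpen {A : Type u} [CommRing A] (c : A →+* Ω) (e : A) :
    pt (Spec.map (CommRingCat.ofHom c)) ∈ PrimeSpectrum.basicOpen e ↔ c e ≠ 0 := by
  change e ∉ Ideal.comap c (IsLocalRing.maximalIdeal Ω) ↔ _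
  simp [IsLocalRing.maximalIdeal_eq_bot]

variable [IsAlgClosed Ω]

set_option backward.isDefEq.respectTransparency false in
/-- Étale localisation isolating a geometric point of a fibre. -/
theorem exists_isolating {X Y : Scheme.{u}} (f : X ⟶ Y) [LocallyQuasiFinite f] [LocallyOfFiniteType f]
    (γ : Spec (CommRingCat.of Ω) ⟶ Y) (χ : Spec (CommRingCat.of Ω) ⟶ X) (hχ : χ ≫ f = γ) :
    ∃ (V : Scheme.{u}) (g : V ⟶ Y) (_ : Etale g) (γ' : Spec (CommRingCat.of Ω) ⟶ V)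
      (W : (pullback f g).Opens) (_ : IsFinite (W.ι ≫ pullback.snd f g)),
      γ' ≫ g = γ ∧ lifts f g W γ' = {χ} := by
  obtain ⟨_, ⟨U, hU, rfl⟩, hxU, -⟩ := Y.isBasis_affineOpens.exists_subset_of_mem_open
    (Set.mem_univ (f (pt χ))) isOpen_univ
  obtain ⟨_, ⟨V, hV, rfl⟩, hxV, hUV : V ≤ f ⁻¹ᵁ U⟩ :=
    X.isBasis_affineOpens.exists_subset_of_mem_open hxU (f ⁻¹ᵁ U).2
  have hft : (f.appLE U V hUV).hom.FiniteType := f.finiteType_appLE hU hV hUV
  have hqf : (f.appLE U V hUV).hom.QuasiFinite :=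
    HasRingHomProperty.appLE (P := @LocallyQuasiFinite) f inferInstance ⟨U, hU⟩ ⟨V, hV⟩ hUV
  algebraize [(f.appLE U V hUV).hom]
  haveI : Algebra.QuasiFinite Γ(Y, U) Γ(X, V) := RingHom.quasiFinite_algebraMap.1 hqf
  have hr : Set.range χ ⊆ Set.range hV.fromSpec := by
    rw [range_eq_pt, Set.singleton_subset_iff, IsAffineOpen.range_fromSpec]; exact hxV
  let χ₀ := IsOpenImmersion.lift hV.fromSpec χ hr
  let β : Γ(X, V) ⟶ CommRingCat.of Ω := Spec.preimage χ₀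
  have hβ : Spec.map β ≫ hV.fromSpec = χ := by
    simp only [β, Spec.map_preimage, χ₀, IsOpenImmersion.lift_fac]
  letI : Algebra Γ(Y, U) Ω := (f.appLE U V hUV ≫ β).hom.toAlgebra
  let b : Γ(X, V) →ₐ[Γ(Y, U)] Ω := ⟨β.hom, fun r => rfl⟩
  have hγ : Spec.map (CommRingCat.ofHom (algebraMap Γ(Y, U) Ω)) ≫ hU.fromSpec = γ := by
    rw [← hχ, ← hβ, Category.assoc, ← IsAffineOpen.SpecMap_appLE_fromSpec f hU hV hUV,
      ← Spec.map_comp_assoc]
    rfl
  obtain ⟨R, _, _, _, a, e, he, _, heb, huniq⟩ := exists_etale_isolating b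
  have : (algebraMap R (Localization.Away e)).Finite := RingHom.finite_algebraMap.mpr ‹_›
  let φ : Γ(Y, U) ⟶ .of R := CommRingCat.ofHom <| algebraMap Γ(Y, U) R
  have hφ : φ.hom.Etale := RingHom.etale_algebraMap.mpr ‹_›
  have : Etale (Spec.map φ) := HasRingHomProperty.Spec_iff.mpr hφ
  let e₁ : Spec (.of (R ⊗[Γ(Y, U)] Γ(X, V))) ≅ pullback (Spec.map (f.appLE U V hUV)) (Spec.map φ) :=
    (pullbackSpecIso _ _ _).symm ≪≫ pullbackSymmetry _ _
  have he₁ : e₁.hom ≫ pullback.fst _ _ =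
      Spec.map (CommRingCat.ofHom Algebra.TensorProduct.includeRight.toRingHom) := by
    dsimp [e₁, RingHom.algebraMap_toAlgebra]
    rw [Category.assoc, pullbackSymmetry_hom_comp_fst]
    exact pullbackSpecIso_inv_snd ..
  have he₂ : e₁.hom ≫ pullback.snd _ _ =
      Spec.map (CommRingCat.ofHom Algebra.TensorProduct.includeLeftRingHom) := by
    dsimp [e₁, RingHom.algebraMap_toAlgebra]
    rw [Category.assoc, pullbackSymmetry_hom_comp_snd]
    exact pullbackSpecIso_inv_fst ..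
  let g : Spec (.of (R ⊗[Γ(Y, U)] Γ(X, V))) ⟶ pullback f (Spec.map φ ≫ hU.fromSpec) :=
    e₁.hom ≫ pullback.map _ _ _ _ hV.fromSpec (𝟙 _) hU.fromSpec
      (IsAffineOpen.SpecMap_appLE_fromSpec ..) (by simp)
  have hg₁ : g ≫ pullback.fst _ _ =
      Spec.map (CommRingCat.ofHom Algebra.TensorProduct.includeRight.toRingHom) ≫ hV.fromSpec := by
    simp only [g, Category.assoc, pullback.lift_fst, pullback.map]
    rw [← Category.assoc, he₁]
  have hg₂ : g ≫ pullback.snd _ _ =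
      Spec.map (CommRingCat.ofHom Algebra.TensorProduct.includeLeftRingHom) := by
    simp only [g, Category.assoc, pullback.lift_snd, pullback.map, Category.comp_id]
    exact he₂
  let W₁ := g ''ᵁ PrimeSpectrum.basicOpen e
  have : IsFinite (W₁.ι ≫ pullback.snd f _) := by
    let ι : Spec (.of (Localization.Away e)) ⟶ pullback f (Spec.map φ ≫ hU.fromSpec) :=
      Spec.map (CommRingCat.ofHom <| algebraMap _ _) ≫ g
    have : ι.opensRange = W₁ := by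
      simp only [Scheme.Hom.opensRange_comp, ι, W₁]
      congr 1
      exact TopologicalSpace.Opens.ext <| PrimeSpectrum.localization_away_comap_range _ _
    rw [← this, ← MorphismProperty.cancel_left_of_respectsIso @IsFinite
      (Scheme.Hom.isoOpensRange _).hom]
    have H : (pullbackSpecIso _ R _).inv ≫ pullback.fst _ (Spec.map (f.appLE U V hUV)) = _ :=
      pullbackSpecIso_inv_fst ..
    simpa [Scheme.Hom.isoOpensRange, ι, g, e₁, RingHom.algebraMap_toAlgebra, φ, H,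
      ← Spec.map_comp, IsFinite.SpecMap_iff]
  have ha : Spec.map (CommRingCat.ofHom a.toRingHom) ≫ Spec.map φ ≫ hU.fromSpec = γ := by
    rw [← Spec.map_comp_assoc, ← hγ]
    congr 2
    ext r
    exact a.commutes r
  refine ⟨Spec (.of R), Spec.map φ ≫ hU.fromSpec, inferInstance,
    Spec.map (CommRingCat.ofHom a.toRingHom), W₁, ‹_›, ha, ?_⟩
  apply Set.eq_singleton_iff_unique_mem.2
  refine ⟨?_, ?_⟩
  · refine ⟨Spec.map (CommRingCat.ofHom
      (Algebra.TensorProduct.lift a b fun _ _ => .all _ _).toRingHom) ≫ g, ⟨?_, ?_⟩, ?_⟩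
    · rw [Category.assoc, hg₂, ← Spec.map_comp]
      congr 1
      ext r
      simp
    · rw [pt_comp]
      exact Set.mem_image_of_mem g ((pt_SpecMap_mem_basicOpen _ _).2 heb)
    · change (_ ≫ g) ≫ pullback.fst _ _ = χ
      rw [Category.assoc, hg₁, ← Spec.map_comp_assoc, ← hβ]
      congr 2
      ext r
      simp [b]
  · rintro _ ⟨ψ, ⟨hψ, hψW⟩, rfl⟩
    obtain ⟨z, hz, hzψ⟩ := hψW
    have hr' : Set.range ψ ⊆ Set.range g := by
      rw [range_eq_pt, Set.singleton_subset_iff]; exact ⟨z, hzψ⟩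
    obtain ⟨c, hc⟩ : ∃ c : CommRingCat.of (R ⊗[Γ(Y, U)] Γ(X, V)) ⟶ CommRingCat.of Ω,
        Spec.map c ≫ g = ψ :=
      ⟨Spec.preimage (IsOpenImmersion.lift g ψ hr'), by rw [Spec.map_preimage, IsOpenImmersion.lift_fac]⟩
    subst hc
    rw [Category.assoc, hg₂, ← Spec.map_comp, Spec.map_inj] at hψ
    have hleft : ∀ r, c.hom (r ⊗ₜ[Γ(Y, U)] 1) = a r := fun r => DFunLike.congr_fun
      (congrArg CommRingCat.Hom.hom hψ) r
    let b' : Γ(X, V) →ₐ[Γ(Y, U)] Ω :=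
      ⟨c.hom.comp Algebra.TensorProduct.includeRight.toRingHom, fun r => by
        rw [← a.commutes r, ← hleft]
        exact congrArg c.hom (Algebra.TensorProduct.includeRight.commutes r)⟩
    have hcb : c.hom = (Algebra.TensorProduct.lift a b' fun _ _ => .all _ _).toRingHom := by
      refine Algebra.TensorProduct.ringHom_ext ?_ ?_
      · ext r; simpa using hleft r
      · ext s; simp [b']
    have hb' : b' = b := huniq b' (by
      have hz' : z = pt (Spec.map c) :=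
        g.isOpenEmbedding.injective (hzψ.trans (pt_comp _ _))
      subst hz'
      have := (pt_SpecMap_mem_basicOpen c.hom e).1 hz
      rwa [hcb] at this)
    change (_ ≫ g) ≫ pullback.fst _ _ = χ
    rw [Category.assoc, hg₁, ← Spec.map_comp_assoc, ← hβ]
    congr 2
    ext s
    simp only [CommRingCat.hom_comp, CommRingCat.hom_ofHom]
    exact DFunLike.congr_fun hb' s

/-! ### Change of the parameter scheme -/

section BaseChange

variable {X Y V V' : Scheme.{u}} (f : X ⟶ Y) {g : V ⟶ Y} {h : V' ⟶ Y} (k : V' ⟶ V) (he : k ≫ g = h)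

/-- The map `X ×_Y V' ⟶ X ×_Y V`. -/
noncomputable def bc : pullback f h ⟶ pullback f g :=
  pullback.lift (pullback.fst f h) (pullback.snd f h ≫ k)
    (by rw [pullback.condition, Category.assoc, he])

theorem isPullback_bc : IsPullback (bc f k he) (pullback.snd f h) (pullback.snd f g) k := by
  refine IsPullback.of_right ?_ (pullback.lift_snd _ _ _) (IsPullback.of_hasPullback f g)
  rw [he, bc, pullback.lift_fst]
  exact IsPullback.of_hasPullback f h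

theorem isFinite_bc (W : (pullback f g).Opens) [IsFinite (W.ι ≫ pullback.snd f g)] :
    IsFinite ((bc f k he ⁻¹ᵁ W).ι ≫ pullback.snd f h) :=
  MorphismProperty.of_isPullback
    ((isPullback_morphismRestrict (bc f k he) W).paste_vert (isPullback_bc f k he)) ‹_›

theorem lifts_bc (W : (pullback f g).Opens) (δ : Spec (CommRingCat.of Ω) ⟶ V') :
    lifts f h ↑(bc f k he ⁻¹ᵁ W) δ = lifts f g W (δ ≫ k) := by
  ext χ
  have key : ∀ H : χ ≫ f = δ ≫ h, pullback.lift χ δ H ≫ bc f k he =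
      pullback.lift χ (δ ≫ k) (by rw [H, Category.assoc, he]) := fun H => by
    apply pullback.hom_ext <;> rw [Category.assoc]
    · exact ((congrArg (_ ≫ ·) (pullback.lift_fst _ _ _)).trans (pullback.lift_fst _ _ _)).trans
        (pullback.lift_fst _ _ _).symm
    · exact ((congrArg (_ ≫ ·) (pullback.lift_snd _ _ _)).trans (pullback.lift_snd_assoc _ _ _ _)).trans
        (pullback.lift_snd _ _ _).symm
  constructor
  · rintro h1
    obtain ⟨H, hs⟩ := mem_lifts.1 h1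
    refine mem_lifts.2 ⟨by rw [H, Category.assoc, he], ?_⟩
    rw [← key H, pt_comp]
    exact hs
  · rintro h1
    obtain ⟨H, hs⟩ := mem_lifts.1 h1
    have H' : χ ≫ f = δ ≫ h := by rw [H, Category.assoc, he]
    refine mem_lifts.2 ⟨H', ?_⟩
    have := key H' ▸ hs
    rw [← key H', pt_comp] at hs
    exact hs

end BaseChange

set_option backward.isDefEq.respectTransparency false in
/-- Étale localisation isolating finitely many geometric points of a fibre. -/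
theorem exists_isolating_family {X Y : Scheme.{u}} (f : X ⟶ Y) [LocallyQuasiFinite f]
    [LocallyOfFiniteType f] (γ : Spec (CommRingCat.of Ω) ⟶ Y)
    (Φ : Set (Spec (CommRingCat.of Ω) ⟶ X)) (hfin : Φ.Finite) (hΦ : ∀ χ ∈ Φ, χ ≫ f = γ) :
    ∃ (V : Scheme.{u}) (g : V ⟶ Y) (_ : Etale g) (γ' : Spec (CommRingCat.of Ω) ⟶ V), γ' ≫ g = γ ∧
      ∀ χ ∈ Φ, ∃ (W : (pullback f g).Opens) (_ : IsFinite (W.ι ≫ pullback.snd f g)),
        lifts f g W γ' = {χ} := by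
  induction Φ, hfin using Set.Finite.induction_on with
  | empty => exact ⟨Y, 𝟙 Y, inferInstance, γ, Category.comp_id _, fun χ hχ => hχ.elim⟩
  | @insert χ Φ _ _ ih =>
    obtain ⟨V₁, g₁, _, γ₁, hγ₁, h₁⟩ := ih fun χ' h => hΦ χ' (Set.mem_insert_of_mem _ h)
    obtain ⟨V₂, g₂, _, γ₂, W₂, _, hγ₂, h₂⟩ := exists_isolating f γ χ (hΦ χ (Set.mem_insert _ _))
    refine ⟨pullback g₁ g₂, pullback.fst g₁ g₂ ≫ g₁, inferInstance,
      pullback.lift γ₁ γ₂ (hγ₁.trans hγ₂.symm), by rw [pullback.lift_fst_assoc, hγ₁], ?_⟩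
    rintro χ' (rfl | hχ')
    · refine ⟨bc f (pullback.snd g₁ g₂) pullback.condition.symm ⁻¹ᵁ W₂, isFinite_bc _ _ _ _, ?_⟩
      rw [lifts_bc, pullback.lift_snd, h₂]
    · obtain ⟨W₁, _, hW₁⟩ := h₁ χ' hχ'
      refine ⟨bc f (pullback.fst g₁ g₂) rfl ⁻¹ᵁ W₁, isFinite_bc _ _ _ _, ?_⟩
      rw [lifts_bc, pullback.lift_fst, hW₁]

theorem isClosed_image_snd {X Y V : Scheme.{u}} {f : X ⟶ Y} {h : V ⟶ Y} (W : (pullback f h).Opens)
    [IsFinite (W.ι ≫ pullback.snd f h)] (s : Set ↑(pullback f h)) (hs : IsOpen s) :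
    IsClosed (pullback.snd f h '' (↑W \ s)) := by
  have h1 : pullback.snd f h '' (↑W \ s) = (W.ι ≫ pullback.snd f h) '' (W.ι ⁻¹' s)ᶜ := by
    ext v
    constructor
    · rintro ⟨p, ⟨hpW, hps⟩, rfl⟩; exact ⟨⟨p, hpW⟩, hps, Scheme.Hom.comp_apply _ _ _⟩
    · rintro ⟨p, hps, rfl⟩; exact ⟨W.ι p, ⟨p.2, hps⟩, (Scheme.Hom.comp_apply _ _ _).symm⟩
  rw [h1]
  exact (W.ι ≫ pullback.snd f h).isClosedMap _ (hs.preimage W.ι.continuous).isClosed_compl

theorem isClosed_image_snd_inter {X Y V : Scheme.{u}} {f : X ⟶ Y} {h : V ⟶ Y}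
    (U W W' : (pullback f h).Opens) [IsFinite (U.ι ≫ pullback.snd f h)]
    [IsFinite (W.ι ≫ pullback.snd f h)] [IsFinite (W'.ι ≫ pullback.snd f h)] (hW : W ≤ U) (hW' : W' ≤ U) :
    IsClosed (pullback.snd f h '' (↑W ∩ ↑W')) := by
  have key : ∀ (A : (pullback f h).Opens) (hA : A ≤ U), IsFinite (A.ι ≫ pullback.snd f h) →
      IsClosed (U.ι ⁻¹' (A : Set ↑(pullback f h))) := by
    intro A hA _
    haveI : IsFinite ((pullback f h).homOfLE hA ≫ U.ι ≫ pullback.snd f h) := by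
      rw [Scheme.homOfLE_ι_assoc]; infer_instance
    haveI : IsFinite ((pullback f h).homOfLE hA) := IsFinite.of_comp _ (U.ι ≫ pullback.snd f h)
    convert ((pullback f h).homOfLE hA).isClosedMap _ isClosed_univ
    ext p
    constructor
    · intro hp
      exact ⟨⟨U.ι p, hp⟩, trivial, Subtype.ext (congrArg (fun φ => φ ⟨U.ι p, hp⟩) (Scheme.homOfLE_ι _ hA) :)⟩
    · rintro ⟨q, -, rfl⟩
      have := congrArg (fun φ => φ q) (Scheme.homOfLE_ι _ hA)
      change U.ι ((pullback f h).homOfLE hA q) ∈ A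
      rw [← Scheme.Hom.comp_apply, Scheme.homOfLE_ι]
      exact q.2
  have h1 : pullback.snd f h '' (↑W ∩ ↑W') = (U.ι ≫ pullback.snd f h) '' (U.ι ⁻¹' W ∩ U.ι ⁻¹' W') := by
    ext v
    constructor
    · rintro ⟨p, ⟨hpW, hpW'⟩, rfl⟩; exact ⟨⟨p, hW hpW⟩, ⟨hpW, hpW'⟩, Scheme.Hom.comp_apply _ _ _⟩
    · rintro ⟨p, hp, rfl⟩; exact ⟨U.ι p, hp, (Scheme.Hom.comp_apply _ _ _).symm⟩
  rw [h1]
  exact (U.ι ≫ pullback.snd f h).isClosedMap _ ((key W hW inferInstance).inter (key W' hW' inferInstance))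

theorem exists_geo_of_mem {X Y V : Scheme.{u}} {f : X ⟶ Y} [LocallyQuasiFinite f] {h : V ⟶ Y}
    {γ : Spec (CommRingCat.of Ω) ⟶ V} {p : ↑(pullback f h)} (hp : pullback.snd f h p = pt γ)
    {U : (pullback f h).Opens} (hpU : p ∈ U) :
    ∃ χ ∈ lifts f h U γ, ∀ (W : (pullback f h).Opens), χ ∈ lifts f h W γ → p ∈ W := by
  obtain ⟨-, ⟨φ, hφ, (hφp : pt φ = p)⟩, -⟩ := finite_geoFib_singleton (pullback.snd f h) γ p hp
  refine ⟨φ ≫ pullback.fst f h, ⟨φ, ⟨hφ, show pt φ ∈ U from hφp ▸ hpU⟩, rfl⟩, fun W hW => ?_⟩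
  obtain ⟨φ', ⟨hφ', hW'⟩, he⟩ := hW
  obtain rfl : φ' = φ := pullback.hom_ext he (hφ'.trans hφ.symm)
  exact hφp ▸ hW'

/-- **Decomposition**: étale locally on the base, a finite open piece of a base change of `f` splits
into pieces with a single geometric point over the given one, pulled back from pieces over an étale
`Y`-scheme. -/
theorem exists_decomp {X Y : Scheme.{u}} (f : X ⟶ Y) [LocallyQuasiFinite f] [LocallyOfFiniteType f]
    {V' : Scheme.{u}} (h : V' ⟶ Y) (U : (pullback f h).Opens) [IsFinite (U.ι ≫ pullback.snd f h)]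
    (γ : Spec (CommRingCat.of Ω) ⟶ V') :
    ∃ (V'' : Scheme.{u}) (k : V'' ⟶ V') (_ : Etale k) (γ'' : Spec (CommRingCat.of Ω) ⟶ V'')
      (V : Scheme.{u}) (g : V ⟶ Y) (_ : Etale g) (l : V'' ⟶ V)
      (W : lifts f h U γ → (pullback f g).Opens) (O : V''.Opens),
      γ'' ≫ k = γ ∧ l ≫ g = k ≫ h ∧ (∀ χ, IsFinite ((W χ).ι ≫ pullback.snd f g)) ∧
      (∀ χ, lifts f g (W χ) (γ'' ≫ l) = {(χ : Spec (CommRingCat.of Ω) ⟶ X)}) ∧ pt γ'' ∈ O ∧
      ∀ (Ω' : Type u) [Field Ω'] [IsAlgClosed Ω'] (δ : Spec (CommRingCat.of Ω') ⟶ V''), pt δ ∈ O →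
        lifts f h U (δ ≫ k) = ⋃ χ, lifts f g (W χ) (δ ≫ l) ∧
        Pairwise (Function.onFun Disjoint fun χ => lifts f g (W χ) (δ ≫ l)) := by
  have hfinΦ := finite_lifts U γ
  haveI : Finite (lifts f h U γ) := hfinΦ
  obtain ⟨V, g, _, γV, hγV, hW⟩ := exists_isolating_family f (γ ≫ h) (lifts f h U γ) hfinΦ
    fun χ hχ => (mem_lifts.1 hχ).1
  choose W hWfin hWlift using fun χ : lifts f h U γ => hW χ χ.2
  let γ₀ : Spec (CommRingCat.of Ω) ⟶ pullback h g := pullback.lift γ γV hγV.symm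
  let k₀ := pullback.fst h g
  let l₀ := pullback.snd h g
  let h₀ := k₀ ≫ h
  let U₀ := bc f (h := h₀) k₀ rfl ⁻¹ᵁ U
  let W₀ := fun χ => bc f (h := h₀) l₀ pullback.condition.symm ⁻¹ᵁ W χ
  haveI : IsFinite (U₀.ι ≫ pullback.snd f h₀) := isFinite_bc f k₀ rfl U
  haveI : ∀ χ, IsFinite ((W₀ χ).ι ≫ pullback.snd f h₀) := fun χ => by
    haveI := hWfin χ; exact isFinite_bc f l₀ pullback.condition.symm (W χ)
  let O₁ : (pullback h g).Opens :=
    ⟨(⋃ χ, pullback.snd f h₀ '' (↑(W₀ χ) \ ↑U₀))ᶜ,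
      (isClosed_iUnion_of_finite fun χ => isClosed_image_snd _ _ U₀.2).isOpen_compl⟩
  have hO₁ : pt γ₀ ∈ O₁ := by
    simp only [O₁, TopologicalSpace.Opens.mem_mk, Set.mem_compl_iff, Set.mem_iUnion, not_exists]
    rintro χ ⟨p, ⟨hpW, hpU⟩, hp⟩
    obtain ⟨χ', hχ', hχ''⟩ := exists_geo_of_mem hp hpW
    refine hpU (hχ'' U₀ ?_)
    rw [lifts_bc, pullback.lift_fst]
    rw [lifts_bc, pullback.lift_snd, hWlift, Set.mem_singleton_iff] at hχ'
    exact hχ' ▸ χ.2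
  let k : (O₁ : Scheme.{u}) ⟶ V' := O₁.ι ≫ k₀
  let l : (O₁ : Scheme.{u}) ⟶ V := O₁.ι ≫ l₀
  have hl : l ≫ g = k ≫ h := by simp [k, l, k₀, l₀, pullback.condition]
  have hrg : Set.range γ₀ ⊆ Set.range O₁.ι := by
    rw [range_eq_pt, Set.singleton_subset_iff, Scheme.Opens.range_ι]; exact hO₁
  let γ₁ := IsOpenImmersion.lift O₁.ι γ₀ hrg
  have hγ₁ : γ₁ ≫ O₁.ι = γ₀ := IsOpenImmersion.lift_fac _ _ _
  let U₁ := bc f (h := k ≫ h) k rfl ⁻¹ᵁ U
  let W₁ := fun χ => bc f (h := k ≫ h) l hl ⁻¹ᵁ W χ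
  haveI : IsFinite (U₁.ι ≫ pullback.snd f (k ≫ h)) := isFinite_bc f k rfl U
  haveI : ∀ χ, IsFinite ((W₁ χ).ι ≫ pullback.snd f (k ≫ h)) := fun χ => by
    haveI := hWfin χ; exact isFinite_bc f l hl (W χ)
  have hk₁ : γ₁ ≫ k = γ := by simp only [k, ← Category.assoc, hγ₁, γ₀, k₀, pullback.lift_fst]
  have hl₁ : γ₁ ≫ l = γV := by simp only [l, ← Category.assoc, hγ₁, γ₀, l₀, pullback.lift_snd]
  have hsub : ∀ χ, W₁ χ ≤ U₁ := by
    intro χ p hp
    obtain ⟨δ, hδ⟩ : ∃ δ : Spec (CommRingCat.of (AlgebraicClosure ((O₁ : Scheme.{u}).residueField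
        (pullback.snd f (k ≫ h) p)))) ⟶ O₁, pt δ = pullback.snd f (k ≫ h) p := ⟨_, pt_geoPt _ _⟩
    obtain ⟨χ', hχ', hχ''⟩ := exists_geo_of_mem (γ := δ) hδ.symm hp
    refine hχ'' U₁ ?_
    have e1 : lifts f (k ≫ h) (W₁ χ) δ = lifts f h₀ (W₀ χ) (δ ≫ O₁.ι) := by
      rw [lifts_bc, lifts_bc]
      exact congrArg _ (Category.assoc _ _ _).symm
    have e2 : lifts f (k ≫ h) U₁ δ = lifts f h₀ U₀ (δ ≫ O₁.ι) := by
      rw [lifts_bc, lifts_bc]
      exact congrArg _ (Category.assoc _ _ _).symm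
    rw [e1] at hχ'
    rw [e2]
    obtain ⟨φ, ⟨hφ, hφW⟩, rfl⟩ := hχ'
    refine ⟨φ, ⟨hφ, ?_⟩, rfl⟩
    by_contra hU
    have h1 : pullback.snd f h₀ (pt φ) = O₁.ι (pt δ) := by rw [← pt_comp, hφ, pt_comp]
    exact (pt δ).2 (Set.mem_iUnion.2 ⟨χ, pt φ, ⟨hφW, hU⟩, h1⟩)
  let bad : Set ↑(O₁ : Scheme.{u}) :=
    pullback.snd f (k ≫ h) '' (↑U₁ \ ↑(⨆ χ, W₁ χ)) ∪
      ⋃ (i : {q : lifts f h U γ × lifts f h U γ // q.1 ≠ q.2}),
        pullback.snd f (k ≫ h) '' (↑(W₁ i.1.1) ∩ ↑(W₁ i.1.2))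
  refine ⟨O₁, k, inferInstance, γ₁, V, g, inferInstance, l, W,
    ⟨badᶜ, ((isClosed_image_snd _ _ (⨆ χ, W₁ χ).2).union (isClosed_iUnion_of_finite fun i =>
      isClosed_image_snd_inter U₁ _ _ (hsub _) (hsub _))).isOpen_compl⟩,
    hk₁, hl, hWfin, fun χ => by rw [hl₁, hWlift], ?_, ?_⟩
  · simp only [TopologicalSpace.Opens.mem_mk, Set.mem_compl_iff, bad, Set.mem_union, Set.mem_iUnion]
    rintro (⟨p, ⟨hpU, hpW⟩, hp⟩ | ⟨⟨⟨χ₁, χ₂⟩, hne⟩, p, ⟨hp1, hp2⟩, hp⟩)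
    · obtain ⟨χ', hχ', hχ''⟩ := exists_geo_of_mem hp hpU
      rw [lifts_bc, hk₁] at hχ'
      refine hpW (TopologicalSpace.Opens.mem_iSup.2 ⟨⟨χ', hχ'⟩, hχ'' _ ?_⟩)
      rw [lifts_bc, hl₁, hWlift]
      exact rfl
    · obtain ⟨χ', hχ', -⟩ := exists_geo_of_mem (U := W₁ χ₁ ⊓ W₁ χ₂) hp ⟨hp1, hp2⟩
      obtain ⟨φ, ⟨hφ, h1, h2⟩, rfl⟩ := hχ'
      have m1 : φ ≫ pullback.fst f (k ≫ h) ∈ lifts f (k ≫ h) ↑(W₁ χ₁) γ₁ := ⟨φ, ⟨hφ, h1⟩, rfl⟩
      have m2 : φ ≫ pullback.fst f (k ≫ h) ∈ lifts f (k ≫ h) ↑(W₁ χ₂) γ₁ := ⟨φ, ⟨hφ, h2⟩, rfl⟩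
      rw [lifts_bc, hl₁, hWlift, Set.mem_singleton_iff] at m1 m2
      exact hne (Subtype.ext (m1.symm.trans m2))
  · intro Ω' _ _ δ hδ
    simp only [TopologicalSpace.Opens.mem_mk, Set.mem_compl_iff, bad, Set.mem_union,
      Set.mem_iUnion, not_or, not_exists] at hδ
    rw [← lifts_bc f k rfl U δ]
    simp only [← lifts_bc f l hl _ δ]
    refine ⟨?_, fun χ₁ χ₂ hne => Set.disjoint_left.2 ?_⟩
    · ext χ
      simp only [Set.mem_iUnion]
      constructor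
      · rintro ⟨φ, ⟨hφ, hφU⟩, rfl⟩
        by_contra hc
        refine hδ.1 ⟨pt φ, ⟨hφU, fun hW => ?_⟩, (pt_comp φ _).symm.trans (congrArg pt hφ)⟩
        obtain ⟨χ', hχ'⟩ := TopologicalSpace.Opens.mem_iSup.1 hW
        exact hc ⟨χ', φ, ⟨hφ, hχ'⟩, rfl⟩
      · rintro ⟨χ', φ, ⟨hφ, hφW⟩, rfl⟩
        exact ⟨φ, ⟨hφ, hsub χ' hφW⟩, rfl⟩
    · rintro _ ⟨φ, ⟨hφ, h1⟩, rfl⟩ ⟨φ', ⟨hφ', h2⟩, he⟩
      obtain rfl : φ' = φ := pullback.hom_ext he (hφ'.trans hφ.symm)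
      exact hδ.2 ⟨⟨χ₁, χ₂⟩, hne⟩ ⟨pt φ', ⟨h1, h2⟩, (pt_comp φ' _).symm.trans (congrArg pt hφ')⟩

end Groth.Agent.Weighting
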