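import Groth.Prelude.Def_MoreMor
import Mathlib

/-!
# Fibre integrals as sums over geometric points
-/

set_option autoImplicit false
set_option linter.unusedSectionVars false
set_option linter.style.haveILetI false

universe u

open CategoryTheory CategoryTheory.Limits AlgebraicGeometry

namespace Groth.Agent.Weighting

variable {Ω : Type u} [Field Ω]

/-- The image point of a geometric point. -/
noncomputable abbrev pt {U : Scheme.{u}} (φ : Spec (CommRingCat.of Ω) ⟶ U) : U := φ (IsLocalRing.closedPoint Ω)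

theorem pt_comp {U V : Scheme.{u}} (φ : Spec (CommRingCat.of Ω) ⟶ U) (π : U ⟶ V) :
    pt (φ ≫ π) = π (pt φ) := Scheme.Hom.comp_apply φ π _

theorem point_eq (p : Spec (CommRingCat.of Ω)) : p = IsLocalRing.closedPoint Ω :=
  @Subsingleton.elim _ (inferInstanceAs (Subsingleton (PrimeSpectrum Ω))) _ _

theorem range_eq_pt {U : Scheme.{u}} (φ : Spec (CommRingCat.of Ω) ⟶ U) : Set.range φ = {pt φ} := by
  ext x
  constructor
  · rintro ⟨p, rfl⟩; rw [point_eq p]; rfl
  · rintro rfl; exact ⟨_, rfl⟩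

/-- Lifts of a geometric point lying in a given set. -/
def geoFib {U V : Scheme.{u}} (π : U ⟶ V) (γ : Spec (CommRingCat.of Ω) ⟶ V) (s : Set U) :
    Set (Spec (CommRingCat.of Ω) ⟶ U) :=
  {φ | φ ≫ π = γ ∧ pt φ ∈ s}

theorem residueFieldMap_finite {U V : Scheme.{u}} (π : U ⟶ V) [LocallyQuasiFinite π] (x : U) :
    (π.residueFieldMap x).hom.Finite := by
  algebraize [(π.residueFieldMap x).hom]
  have h1 : ((U.residue x).hom.comp (π.stalkMap x).hom).QuasiFinite :=
    (RingHom.QuasiFinite.of_finite (RingHom.Finite.of_surjective _ (U.residue_surjective x))).comp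
      (π.quasiFiniteAt x)
  rw [← CommRingCat.hom_comp, ← Scheme.residue_residueFieldMap, CommRingCat.hom_comp] at h1
  have h2 := h1.of_comp
  haveI : Algebra.QuasiFinite (V.residueField (π x)) (U.residueField x) :=
    RingHom.quasiFinite_algebraMap.1 h2
  exact RingHom.finite_algebraMap.2 (Module.Finite.of_quasiFinite)

/-- A chosen geometric point over a point. -/
noncomputable def geoPt (V : Scheme.{u}) (v : V) :
    Spec (CommRingCat.of (AlgebraicClosure (V.residueField v))) ⟶ V :=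
  Spec.map (CommRingCat.ofHom (algebraMap (V.residueField v) (AlgebraicClosure (V.residueField v)))) ≫
    V.fromSpecResidueField v

theorem pt_geoPt (V : Scheme.{u}) (v : V) : pt (geoPt V v) = v := by
  rw [geoPt, pt_comp, Scheme.fromSpecResidueField_apply]

variable [IsAlgClosed Ω]

/-- Geometric points over a given one with given image correspond to embeddings. -/
theorem card_fibre {U V : Scheme.{u}} (π : U ⟶ V) [LocallyQuasiFinite π]
    (γ : Spec (CommRingCat.of Ω) ⟶ V) (u : U) (hu : π u = pt γ) :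
    {τ : U.residueField u ⟶ CommRingCat.of Ω | Spec.map τ ≫ U.fromSpecResidueField u ≫ π = γ}.Finite ∧
    Nat.card {τ : U.residueField u ⟶ CommRingCat.of Ω | Spec.map τ ≫ U.fromSpecResidueField u ≫ π = γ} =
      (letI := (π.residueFieldMap u).hom.toAlgebra
       Field.finSepDegree (V.residueField (π u)) (U.residueField u)) ∧
    0 < (letI := (π.residueFieldMap u).hom.toAlgebra
       Field.finSepDegree (V.residueField (π u)) (U.residueField u)) := by
  obtain ⟨v', hv', σ, hγ⟩ : ∃ v' : V, v' = pt γ ∧ ∃ σ : V.residueField v' ⟶ CommRingCat.of Ω,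
      Spec.map σ ≫ V.fromSpecResidueField v' = γ :=
    ⟨_, rfl, _, (Scheme.SpecToEquivOfField Ω V).left_inv γ⟩
  obtain rfl : v' = π u := hv'.trans hu.symm
  subst hγ
  letI := (π.residueFieldMap u).hom.toAlgebra
  letI : Algebra (V.residueField (π u)) Ω := σ.hom.toAlgebra
  haveI : Module.Finite (V.residueField (π u)) (U.residueField u) :=
    RingHom.finite_algebraMap.1 (residueFieldMap_finite π u)
  have key : ∀ τ : U.residueField u ⟶ CommRingCat.of Ω,
      Spec.map τ ≫ U.fromSpecResidueField u ≫ π =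
        Spec.map σ ≫ V.fromSpecResidueField (π u) ↔
        τ.hom.comp (algebraMap (V.residueField (π u)) (U.residueField u)) = σ.hom := by
    intro τ
    rw [← Scheme.Hom.SpecMap_residueFieldMap_fromSpecResidueField, ← Spec.map_comp_assoc,
      cancel_mono, Spec.map_inj]
    exact ⟨fun h => congrArg CommRingCat.Hom.hom h, fun h => CommRingCat.hom_ext h⟩
  let e : {τ : U.residueField u ⟶ CommRingCat.of Ω | Spec.map τ ≫ U.fromSpecResidueField u ≫ π =
        Spec.map σ ≫ V.fromSpecResidueField (π u)} ≃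
      (U.residueField u →ₐ[V.residueField (π u)] Ω) :=
    { toFun := fun τ => ⟨τ.1.hom, fun r => DFunLike.congr_fun ((key τ.1).1 τ.2) r⟩
      invFun := fun g => ⟨CommRingCat.ofHom g.toRingHom, (key _).2 g.comp_algebraMap⟩
      left_inv := fun τ => rfl
      right_inv := fun g => rfl }
  haveI : Finite (U.residueField u →ₐ[V.residueField (π u)] Ω) := inferInstance
  refine ⟨Set.finite_coe_iff.1 (Finite.of_equiv _ e.symm), ?_, ?_⟩
  · rw [Nat.card_congr e, Field.finSepDegree_eq_of_isAlgClosed _ _ Ω]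
  · rw [Field.finSepDegree_eq_of_isAlgClosed _ _ Ω]
    haveI : Nonempty (U.residueField u →ₐ[V.residueField (π u)] Ω) := ⟨IsAlgClosed.lift⟩
    exact Nat.card_pos

/-- The lifts with given image. -/
theorem geoFib_singleton {U V : Scheme.{u}} (π : U ⟶ V) (γ : Spec (CommRingCat.of Ω) ⟶ V) (u : U) :
    geoFib π γ {u} = (fun τ => Spec.map τ ≫ U.fromSpecResidueField u) ''
      {τ : U.residueField u ⟶ CommRingCat.of Ω | Spec.map τ ≫ U.fromSpecResidueField u ≫ π = γ} := by
  ext φ
  constructor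
  · rintro ⟨h, hu⟩
    obtain rfl : pt φ = u := hu
    refine ⟨_, ?_, (Scheme.SpecToEquivOfField Ω U).left_inv φ⟩
    exact (Category.assoc _ _ _).symm.trans
      ((congrArg (· ≫ π) ((Scheme.SpecToEquivOfField Ω U).left_inv φ)).trans h)
  · rintro ⟨τ, h, rfl⟩
    exact ⟨(Category.assoc _ _ _).trans h, by simp [pt_comp]⟩

theorem finite_geoFib_singleton {U V : Scheme.{u}} (π : U ⟶ V) [LocallyQuasiFinite π]
    (γ : Spec (CommRingCat.of Ω) ⟶ V) (u : U) (hu : π u = pt γ) :
    (geoFib π γ {u}).Finite ∧ (geoFib π γ {u}).Nonempty ∧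
      ∀ w : U → ℤ, ∑ᶠ φ ∈ geoFib π γ {u}, w (pt φ) = w u * (letI := (π.residueFieldMap u).hom.toAlgebra
        (Field.finSepDegree (V.residueField (π u)) (U.residueField u) : ℤ)) := by
  obtain ⟨h1, h2, h3⟩ := card_fibre π γ u hu
  have hfin := geoFib_singleton π γ u ▸ h1.image _
  have hinj : Set.InjOn (fun τ => Spec.map τ ≫ U.fromSpecResidueField u)
      {τ : U.residueField u ⟶ CommRingCat.of Ω | Spec.map τ ≫ U.fromSpecResidueField u ≫ π = γ} :=
    fun τ _ τ' _ h => by simpa [cancel_mono, Spec.map_inj] using h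
  refine ⟨hfin, ?_, fun w => ?_⟩
  · rw [geoFib_singleton, Set.image_nonempty, ← Set.nonempty_coe_sort]
    exact (Nat.card_pos_iff.1 (h2 ▸ h3)).1
  · rw [finsum_mem_congr rfl (fun φ hφ => show w (pt φ) = w u from congrArg w hφ.2),
      finsum_mem_eq_finite_toFinset_sum _ hfin, Finset.sum_const, nsmul_eq_mul,
      ← Set.ncard_eq_toFinset_card _ hfin, geoFib_singleton, hinj.ncard_image,
      ← Nat.card_coe_set_eq, h2, mul_comm]

theorem geoFib_eq_biUnion {U V : Scheme.{u}} (π : U ⟶ V) (γ : Spec (CommRingCat.of Ω) ⟶ V) (s : Set U) :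
    geoFib π γ s = ⋃ u ∈ π ⁻¹' {pt γ} ∩ s, geoFib π γ {u} := by
  ext φ
  simp only [Set.mem_iUnion]
  constructor
  · intro h
    exact ⟨pt φ, ⟨by rw [Set.mem_preimage, Set.mem_singleton_iff, ← pt_comp, h.1], h.2⟩, h.1, rfl⟩
  · rintro ⟨u, ⟨-, hu⟩, h, (rfl : pt φ = u)⟩
    exact ⟨h, hu⟩

theorem finite_geoFib {U V : Scheme.{u}} (π : U ⟶ V) [LocallyQuasiFinite π]
    (γ : Spec (CommRingCat.of Ω) ⟶ V) (s : Set U) (h : (π ⁻¹' {pt γ} ∩ s).Finite) :
    (geoFib π γ s).Finite := by
  rw [geoFib_eq_biUnion]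
  exact h.biUnion fun u hu => (finite_geoFib_singleton π γ u hu.1).1

/-- The fibre integral is a sum over the geometric points of the fibre. -/
theorem fibreIntegral_eq {U V : Scheme.{u}} (π : U ⟶ V) [LocallyQuasiFinite π] (w : U → ℤ)
    (γ : Spec (CommRingCat.of Ω) ⟶ V) :
    MoreMor.fibreIntegral π w (pt γ) = ∑ᶠ φ ∈ geoFib π γ Set.univ, w (pt φ) := by
  rw [MoreMor.fibreIntegral]
  rw [← finsum_mem_inter_support (fun φ => w (pt φ))]
  have hS : geoFib π γ Set.univ ∩ Function.support (fun φ => w (pt φ)) =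
      geoFib π γ {u | w u ≠ 0} := by
    ext φ; simp [geoFib]
  rw [hS]
  let c : U → ℤ := fun u => w u * (letI := (π.residueFieldMap u).hom.toAlgebra
    (Field.finSepDegree (V.residueField (π u)) (U.residueField u) : ℤ))
  change ∑ᶠ u : {u // π u = pt γ}, c u.1 = _
  rw [show (∑ᶠ u : {u // π u = pt γ}, c u.1) = ∑ᶠ u ∈ π ⁻¹' {pt γ}, c u from
    finsum_set_coe_eq_finsum_mem _]
  rw [← finsum_mem_inter_support c]
  have hc : π ⁻¹' {pt γ} ∩ Function.support c = π ⁻¹' {pt γ} ∩ {u | w u ≠ 0} := by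
    ext u
    refine and_congr_right fun hu => ?_
    have := (card_fibre π γ u hu).2.2
    simp only [Function.mem_support, Set.mem_ofPred_eq, c, ne_eq, mul_eq_zero, Int.natCast_eq_zero]
    omega
  rw [hc]
  by_cases hfin : (π ⁻¹' {pt γ} ∩ {u | w u ≠ 0}).Finite
  · rw [geoFib_eq_biUnion π γ, finsum_mem_biUnion ?_ hfin
      (fun u hu => (finite_geoFib_singleton π γ u hu.1).1)]
    · exact finsum_mem_congr rfl fun u hu => ((finite_geoFib_singleton π γ u hu.1).2.2 w).symm
    · intro u _ u' _ huu'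
      exact Set.disjoint_left.2 fun φ h h' => huu' (h.2.symm.trans h'.2)
  · have h1 : ¬ (geoFib π γ {u | w u ≠ 0}).Finite := fun h => hfin <| (h.image pt).subset fun u hu => by
      obtain ⟨φ, hφ, hu'⟩ := (finite_geoFib_singleton π γ u hu.1).2.1
      exact ⟨φ, ⟨hφ, show w (pt φ) ≠ 0 from (show pt φ = u from hu') ▸ hu.2⟩, hu'⟩
    rw [finsum_mem_eq_zero_of_infinite, finsum_mem_eq_zero_of_infinite]
    · rwa [Set.inter_eq_left.2 (fun φ hφ => hφ.2)]
    · rwa [← hc, Set.inter_assoc, Set.inter_self, hc]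

/-! ### Lifts into `X` of geometric points of a scheme over `Y` -/

/-- The geometric points of `X` lying in `s ⊆ X ×_Y V` over a geometric point of `V`. -/
def lifts {X Y V : Scheme.{u}} (f : X ⟶ Y) (h : V ⟶ Y) (s : Set ↑(pullback f h))
    (γ : Spec (CommRingCat.of Ω) ⟶ V) : Set (Spec (CommRingCat.of Ω) ⟶ X) :=
  (fun φ => φ ≫ pullback.fst f h) '' geoFib (pullback.snd f h) γ s

/-- The weighted number of these lifts. -/
noncomputable def geoSum {X Y V : Scheme.{u}} (f : X ⟶ Y) (w : X → ℤ) (h : V ⟶ Y)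
    (s : Set ↑(pullback f h)) (γ : Spec (CommRingCat.of Ω) ⟶ V) : ℤ :=
  ∑ᶠ χ ∈ lifts f h s γ, w (pt χ)

variable {X Y V : Scheme.{u}} {f : X ⟶ Y} {h : V ⟶ Y}

theorem mem_lifts {s : Set ↑(pullback f h)} {γ : Spec (CommRingCat.of Ω) ⟶ V}
    {χ : Spec (CommRingCat.of Ω) ⟶ X} :
    χ ∈ lifts f h s γ ↔ ∃ H : χ ≫ f = γ ≫ h, pt (pullback.lift χ γ H) ∈ s := by
  constructor
  · rintro ⟨φ, ⟨hφ, hs⟩, rfl⟩
    refine ⟨by rw [Category.assoc, pullback.condition, reassoc_of% hφ], ?_⟩
    rwa [show pullback.lift (φ ≫ pullback.fst f h) γ _ = φ from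
      pullback.hom_ext (pullback.lift_fst _ _ _) ((pullback.lift_snd _ _ _).trans hφ.symm)]
  · rintro ⟨H, hs⟩
    exact ⟨pullback.lift χ γ H, ⟨pullback.lift_snd _ _ _, hs⟩, pullback.lift_fst _ _ _⟩

theorem injOn_fst {s : Set ↑(pullback f h)} {γ : Spec (CommRingCat.of Ω) ⟶ V} :
    Set.InjOn (fun φ => φ ≫ pullback.fst f h) (geoFib (pullback.snd f h) γ s) :=
  fun φ hφ φ' hφ' he => pullback.hom_ext he (hφ.1.trans hφ'.1.symm)

theorem geoSum_eq (w : X → ℤ) (s : Set ↑(pullback f h)) (γ : Spec (CommRingCat.of Ω) ⟶ V) :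
    geoSum f w h s γ = ∑ᶠ φ ∈ geoFib (pullback.snd f h) γ s, w (pullback.fst f h (pt φ)) := by
  rw [geoSum, lifts, finsum_mem_image injOn_fst]
  exact finsum_mem_congr rfl fun φ _ => congrArg w (pt_comp _ _)

theorem geoFib_image_opens {U W : Scheme.{u}} (π : U ⟶ W) (O : U.Opens)
    (γ : Spec (CommRingCat.of Ω) ⟶ W) :
    (fun φ => φ ≫ O.ι) '' geoFib (O.ι ≫ π) γ Set.univ = geoFib π γ O := by
  ext ψ
  constructor
  · rintro ⟨φ, ⟨hφ, -⟩, rfl⟩
    exact ⟨(Category.assoc _ _ _).trans hφ, by rw [pt_comp]; exact (pt φ).2⟩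
  · rintro ⟨hψ, hO⟩
    have hr : Set.range ψ ⊆ Set.range O.ι := by
      rw [range_eq_pt, Set.singleton_subset_iff, Scheme.Opens.range_ι]; exact hO
    refine ⟨IsOpenImmersion.lift O.ι ψ hr, ⟨?_, trivial⟩, IsOpenImmersion.lift_fac _ _ _⟩
    rw [← Category.assoc, IsOpenImmersion.lift_fac, hψ]

theorem fibreIntegral_opens [LocallyQuasiFinite f] (w : X → ℤ) (U : (pullback f h).Opens)
    (γ : Spec (CommRingCat.of Ω) ⟶ V) :
    MoreMor.fibreIntegral (U.ι ≫ pullback.snd f h) (fun u => w (pullback.fst f h (U.ι u))) (pt γ) =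
      geoSum f w h U γ := by
  rw [fibreIntegral_eq, geoSum_eq, ← geoFib_image_opens,
    finsum_mem_image (fun _ _ _ _ he => (cancel_mono U.ι).1 he)]
  exact finsum_mem_congr rfl fun φ _ => by rw [pt_comp]

theorem finite_lifts [LocallyQuasiFinite f] (U : (pullback f h).Opens)
    [IsFinite (U.ι ≫ pullback.snd f h)] (γ : Spec (CommRingCat.of Ω) ⟶ V) :
    (lifts f h U γ).Finite := by
  refine Set.Finite.image _ ?_
  rw [← geoFib_image_opens]
  refine Set.Finite.image _ (finite_geoFib _ _ _ ?_)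
  exact ((U.ι ≫ pullback.snd f h).finite_preimage_singleton _).inter_of_left _

end Groth.Agent.Weighting
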