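import Groth.Agent.Weighting.Basic
import Groth.Agent.FpqcDescent.Affine

/-!
# Finiteness over the locus where the fibre integral is maximal
-/

set_option autoImplicit false
set_option linter.unusedSectionVars false
set_option linter.style.haveILetI false

universe u

open CategoryTheory CategoryTheory.Limits AlgebraicGeometry

namespace Groth.Agent.Weighting

/-- A separated quasi-finite morphism covered by finitely many opens finite over the base is finite. -/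
theorem isFinite_of_finite_cover {P S : Scheme.{u}} (q : P ⟶ S) [IsSeparated q] [LocallyOfFiniteType q]
    [LocallyQuasiFinite q] {ι : Type*} [Finite ι] (W : ι → P.Opens) (hW : ∀ i, IsFinite ((W i).ι ≫ q))
    (hcov : ∀ p : P, ∃ i, p ∈ W i) : IsFinite q := by
  haveI : UniversallyClosed q := by
    refine ⟨fun P' S' a b q' hc' => ?_⟩
    have hc := hc'.flip
    intro C hC
    have hfin : ∀ i, IsFinite ((a ⁻¹ᵁ W i).ι ≫ q') := fun i =>
      MorphismProperty.of_isPullback ((isPullback_morphismRestrict a (W i)).paste_vert hc) (hW i)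
    have h1 : q' '' C = ⋃ i, ((a ⁻¹ᵁ W i).ι ≫ q') '' ((a ⁻¹ᵁ W i).ι ⁻¹' C) := by
      ext s
      simp only [Set.mem_image, Set.mem_iUnion, Set.mem_preimage]
      constructor
      · rintro ⟨p, hp, rfl⟩
        obtain ⟨i, hi⟩ := hcov (a p)
        exact ⟨i, ⟨p, hi⟩, hp, Scheme.Hom.comp_apply _ _ _⟩
      · rintro ⟨i, p, hp, rfl⟩
        exact ⟨(a ⁻¹ᵁ W i).ι p, hp, (Scheme.Hom.comp_apply _ _ _).symm⟩
    rw [h1]
    refine isClosed_iUnion_of_finite fun i => ?_
    haveI := hfin i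
    exact ((a ⁻¹ᵁ W i).ι ≫ q').isClosedMap _ (hC.preimage (a ⁻¹ᵁ W i).ι.continuous)
  haveI : IsProper q := ⟨⟩
  exact .of_isProper_of_locallyQuasiFinite q

/-- Near a point where the fibre integral attains an upper bound, the pieces isolating the geometric
points of the fibre cover everything. -/
theorem exists_cover_near_max {X Y : Scheme.{u}} {f : X ⟶ Y} [LocallyQuasiFinite f]
    [LocallyOfFiniteType f] [IsSeparated f] (hfin : ∀ y : Y, (f ⁻¹' {y}).Finite) {w : X → ℤ}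
    (hw : MoreMor.IsWeighting f w) (hpos : ∀ x, 0 < w x) {d : ℤ}
    (hmax : ∀ y : Y, MoreMor.fibreIntegral f w y ≤ d) (y : Y) (hy : MoreMor.fibreIntegral f w y = d) :
    ∃ (V : Scheme.{u}) (g : V ⟶ Y) (_ : Etale g) (N : V.Opens) (ι : Type u) (_ : Finite ι)
      (W : ι → (pullback f g).Opens), y ∈ g '' ↑N ∧ (∀ i, IsFinite ((W i).ι ≫ pullback.snd f g)) ∧
      (∀ v ∈ N, MoreMor.fibreIntegral f w (g v) = d) ∧
      ∀ p, pullback.snd f g p ∈ N → ∃ i, p ∈ W i := by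
  obtain ⟨Ω, _, _, γ, rfl⟩ : ∃ (Ω : Type u) (_ : Field Ω) (_ : IsAlgClosed Ω)
      (γ : Spec (CommRingCat.of Ω) ⟶ Y), pt γ = y := ⟨_, _, inferInstance, _, pt_geoPt Y y⟩
  have hΦ : (geoFib f γ Set.univ).Finite := finite_geoFib _ _ _ ((hfin _).inter_of_left _)
  haveI : Finite (geoFib f γ Set.univ) := hΦ
  obtain ⟨V, g, _, γ', hγ', hW⟩ := exists_isolating_family f γ _ hΦ fun χ hχ => hχ.1
  choose W hWfin hWlift using fun χ : geoFib f γ Set.univ => hW χ χ.2
  have hconst : ∀ χ, SumConst f w g (W χ) γ' := fun χ => by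
    haveI := hWfin χ; exact sumConst_of_isWeighting hw g (W χ) γ'
  choose Oχ cχ hOχ hcχ using hconst
  have hclosed : ∀ i j, IsClosed (pullback.snd f g '' (↑(W i) ∩ ↑(W j))) := by
    intro i j
    haveI := hWfin i; haveI := hWfin j
    haveI : IsFinite ((W j).ι) := IsFinite.of_comp _ (pullback.snd f g)
    have hcl : IsClosed (↑(W j) : Set ↑(pullback f g)) := by
      rw [← Scheme.Opens.range_ι (W j)]
      exact (W j).ι.isClosedMap.isClosed_range
    have := isClosed_image_snd (W i) (↑(W j))ᶜ hcl.isOpen_compl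
    rwa [sdiff_compl] at this
  let bad : Set V := ⋃ q : {q : geoFib f γ Set.univ × geoFib f γ Set.univ // q.1 ≠ q.2},
    pullback.snd f g '' (↑(W q.1.1) ∩ ↑(W q.1.2))
  have hbad : IsClosed bad := isClosed_iUnion_of_finite fun q => hclosed _ _
  have hγbad : pt γ' ∉ bad := by
    simp only [bad, Set.mem_iUnion, not_exists]
    rintro ⟨⟨i, j⟩, hne⟩ ⟨p, ⟨hi, hj⟩, hp⟩
    obtain ⟨χ, hχ, -⟩ := exists_geo_of_mem (U := W i ⊓ W j) hp ⟨hi, hj⟩
    obtain ⟨φ, ⟨hφ, h1, h2⟩, rfl⟩ := hχ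
    have m1 : φ ≫ pullback.fst f g ∈ lifts f g (W i) γ' := ⟨φ, ⟨hφ, h1⟩, rfl⟩
    have m2 : φ ≫ pullback.fst f g ∈ lifts f g (W j) γ' := ⟨φ, ⟨hφ, h2⟩, rfl⟩
    rw [hWlift, Set.mem_singleton_iff] at m1 m2
    exact hne (Subtype.ext (m1.symm.trans m2))
  let N : V.Opens := ⟨(⋂ χ, ↑(Oχ χ)) \ bad, (isOpen_iInter_of_finite fun χ => (Oχ χ).2).sdiff hbad⟩
  refine ⟨V, g, inferInstance, N, geoFib f γ Set.univ, inferInstance, W,
    ⟨pt γ', ⟨Set.mem_iInter.2 hOχ, hγbad⟩, by rw [← pt_comp, hγ']⟩, hWfin, ?_⟩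
  have key : ∀ v ∈ N, MoreMor.fibreIntegral f w (g v) = d ∧
      geoFib f (geoPt V v ≫ g) Set.univ ⊆ ⋃ χ, lifts f g (W χ) (geoPt V v) := by
    rintro v ⟨hvO, hvbad⟩
    have hval : ∀ χ : geoFib f γ Set.univ, geoSum f w g (W χ) (geoPt V v) = w (pt χ.1) := fun χ => by
      rw [hcχ χ _ _ (by rw [pt_geoPt]; exact Set.mem_iInter.1 hvO χ), ← hcχ χ _ γ' (hOχ χ), geoSum,
        hWlift, finsum_mem_singleton]
    have hdisj : Pairwise (Function.onFun Disjoint fun χ => lifts f g (W χ) (geoPt V v)) := by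
      intro i j hne
      refine Set.disjoint_left.2 ?_
      rintro _ ⟨φ, ⟨hφ, h1⟩, rfl⟩ ⟨φ', ⟨hφ', h2⟩, he⟩
      obtain rfl : φ' = φ := pullback.hom_ext he (hφ'.trans hφ.symm)
      exact hvbad (Set.mem_iUnion.2 ⟨⟨⟨i, j⟩, hne⟩, pt φ', ⟨h1, h2⟩, by rw [← pt_comp, hφ', pt_geoPt]⟩)
    have hsub : (⋃ χ, lifts f g (W χ) (geoPt V v)) ⊆ geoFib f (geoPt V v ≫ g) Set.univ := by
      simp only [Set.iUnion_subset_iff]
      exact fun χ χ' h => ⟨(mem_lifts.1 h).1, trivial⟩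
    have hfinA : (geoFib f (geoPt V v ≫ g) Set.univ).Finite :=
      finite_geoFib _ _ _ ((hfin _).inter_of_left _)
    have hI : MoreMor.fibreIntegral f w (g v) = ∑ a ∈ hfinA.toFinset, w (pt a) := by
      conv_lhs => rw [← pt_geoPt V v, ← pt_comp, fibreIntegral_eq]
      rw [finsum_mem_eq_finite_toFinset_sum _ hfinA]
    have hS : d = ∑ a ∈ (hfinA.subset hsub).toFinset, w (pt a) := by
      rw [← finsum_mem_eq_finite_toFinset_sum _ (hfinA.subset hsub),
        finsum_mem_iUnion hdisj fun χ => finite_lifts_of_mem (hWfin χ) _, ← hy, fibreIntegral_eq,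
        ← finsum_set_coe_eq_finsum_mem (geoFib f γ Set.univ)]
      exact finsum_congr fun χ => (hval χ).symm
    have hle := Finset.sum_le_sum_of_subset_of_nonneg
      (Set.Finite.toFinset_subset_toFinset (hs := hfinA.subset hsub) (ht := hfinA) |>.2 hsub)
      (f := fun a => w (pt a)) fun i _ _ => (hpos _).le
    refine ⟨le_antisymm (hmax _) (by rw [hI, hS]; exact hle), fun a ha => ?_⟩
    by_contra hna
    have hlt := Finset.sum_lt_sum_of_subset
      (Set.Finite.toFinset_subset_toFinset (hs := hfinA.subset hsub) (ht := hfinA) |>.2 hsub)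
      (f := fun a => w (pt a)) (i := a) (hfinA.mem_toFinset.2 ha)
      (fun h => hna ((hfinA.subset hsub).mem_toFinset.1 h)) (hpos _) fun i _ _ => (hpos _).le
    have := hmax (g v)
    rw [hI, hS] at this
    exact absurd this (not_le.2 hlt)
  refine ⟨fun v hv => (key v hv).1, fun p hp => ?_⟩
  obtain ⟨χ', hχ', hχ''⟩ := exists_geo_of_mem (γ := geoPt V (pullback.snd f g p))
    (pt_geoPt V _).symm (U := ⊤) (Set.mem_univ p)
  obtain ⟨i, hi⟩ := Set.mem_iUnion.1 ((key _ hp).2 ⟨(mem_lifts.1 hχ').1, trivial⟩)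
  exact ⟨i, hχ'' _ hi⟩

/-- The morphism is finite over the locus where the fibre integral is maximal. -/
theorem isFinite_over_max {X Y : Scheme.{u}} {f : X ⟶ Y} [LocallyQuasiFinite f]
    [LocallyOfFiniteType f] [IsSeparated f] (hfin : ∀ y : Y, (f ⁻¹' {y}).Finite) {w : X → ℤ}
    (hw : MoreMor.IsWeighting f w) (hpos : ∀ x, 0 < w x) {d : ℤ}
    (hmax : ∀ y : Y, MoreMor.fibreIntegral f w y ≤ d) :
    ∃ hYd : IsOpen {y : Y | MoreMor.fibreIntegral f w y = d},
      IsFinite (f ∣_ ⟨{y : Y | MoreMor.fibreIntegral f w y = d}, hYd⟩) := by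
  have hYd : IsOpen {y : Y | MoreMor.fibreIntegral f w y = d} := isOpen_iff_forall_mem_open.2 fun y hy => by
    obtain ⟨O, hO, hyO, h⟩ := exists_open_le_fibreIntegral hfin hw hpos y
    exact ⟨O, fun y' hy' => le_antisymm (hmax y') (hy ▸ h y' hy'), hO, hyO⟩
  refine ⟨hYd, ?_⟩
  set Yd : Y.Opens := ⟨_, hYd⟩
  have hloc : ∀ y : Yd, ∃ O : Y.Opens, y.1 ∈ O ∧ O ≤ Yd ∧ IsFinite (f ∣_ O) := by
    rintro ⟨y, hy⟩
    obtain ⟨V, g, _, N, ι, _, W, hyN, hWfin, hNd, hcov⟩ := exists_cover_near_max hfin hw hpos hmax y hy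
    obtain ⟨O, hO, hyO, hON⟩ : ∃ O : Y.Opens, IsAffineOpen O ∧ y ∈ O ∧ (O : Set Y) ⊆ g '' ↑N := by
      obtain ⟨_, ⟨O, hO, rfl⟩, hyO, hON⟩ := Y.isBasis_affineOpens.exists_subset_of_mem_open hyN
        (g.isOpenMap _ N.2)
      exact ⟨O, hO, hyO, hON⟩
    refine ⟨O, hyO, fun y' hy' => ?_, ?_⟩
    · obtain ⟨v, hv, rfl⟩ := hON hy'
      exact hNd v hv
    have hN' : ∀ y' : (O : Set Y), ∃ A : V.Opens, IsAffineOpen A ∧ A ≤ N ⊓ g ⁻¹ᵁ O ∧ y'.1 ∈ g '' ↑A := by
      rintro ⟨y', hy'⟩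
      obtain ⟨v, hv, rfl⟩ := hON hy'
      obtain ⟨_, ⟨A, hA, rfl⟩, hvA, hAN⟩ := V.isBasis_affineOpens.exists_subset_of_mem_open
        (show v ∈ N ⊓ g ⁻¹ᵁ O from ⟨hv, hy'⟩) (N ⊓ g ⁻¹ᵁ O).2
      exact ⟨A, hA, hAN, v, hvA, rfl⟩
    choose A hA hAN hAy using hN'
    obtain ⟨t, ht⟩ := hO.isCompact.elim_finite_subcover (fun y' => g '' ↑(A y'))
      (fun y' => g.isOpenMap _ (A y').2) fun y' hy' => Set.mem_iUnion.2 ⟨⟨y', hy'⟩, hAy _⟩
    let N' : V.Opens := ⨆ i ∈ t, A i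
    have hN'le : N' ≤ g ⁻¹ᵁ O := iSup₂_le fun i _ => (hAN i).trans inf_le_right
    have hN'N : N' ≤ N := iSup₂_le fun i _ => (hAN i).trans inf_le_left
    haveI : IsAffine (O : Scheme.{u}) := hO
    haveI : CompactSpace (N' : Scheme.{u}) := isCompact_iff_compactSpace.1 (by
      simpa [N'] using t.isCompact_biUnion fun i _ => (hA i).isCompact)
    let q : (N' : Scheme.{u}) ⟶ O := g.resLE O N' hN'le
    haveI : QuasiCompact q := (quasiCompact_iff_compactSpace q).2 inferInstance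
    haveI : Etale q := inferInstance
    haveI : Surjective q := ⟨fun y' => by
      obtain ⟨i, hi, v, hv, hvy⟩ : ∃ i ∈ t, y'.1 ∈ g '' ↑(A i) := by simpa using ht y'.2
      have hvN : v ∈ N' := TopologicalSpace.Opens.mem_iSup.2 ⟨i, TopologicalSpace.Opens.mem_iSup.2 ⟨hi, hv⟩⟩
      refine ⟨⟨v, hvN⟩, Subtype.ext ?_⟩
      refine Eq.trans ?_ hvy
      exact congrArg (fun φ => φ ⟨v, hvN⟩) (Scheme.Hom.resLE_comp_ι g hN'le)⟩
    let sq : IsPullback (pullback.fst (f ∣_ O) q ≫ (f ⁻¹ᵁ O).ι) (pullback.snd (f ∣_ O) q) f (q ≫ O.ι) :=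
      (IsPullback.of_hasPullback _ _).paste_horiz (isPullback_morphismRestrict f O).flip
    have hqg : q ≫ O.ι = N'.ι ≫ g := Scheme.Hom.resLE_comp_ι g hN'le
    let m : pullback (f ∣_ O) q ⟶ pullback f g :=
      pullback.lift (pullback.fst (f ∣_ O) q ≫ (f ⁻¹ᵁ O).ι) (pullback.snd (f ∣_ O) q ≫ N'.ι)
        (by rw [Category.assoc, Category.assoc, ← hqg, ← morphismRestrict_ι, pullback.condition_assoc])
    have sqm : IsPullback m (pullback.snd (f ∣_ O) q) (pullback.snd f g) N'.ι := by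
      refine IsPullback.of_right ?_ (pullback.lift_snd _ _ _) (IsPullback.of_hasPullback f g)
      rw [pullback.lift_fst, ← hqg]
      exact sq
    haveI : IsFinite (pullback.snd (f ∣_ O) q) :=
      isFinite_of_finite_cover _ (fun i => m ⁻¹ᵁ W i)
        (fun i => MorphismProperty.of_isPullback
          ((isPullback_morphismRestrict m (W i)).paste_vert sqm) (hWfin i))
        (fun p => hcov (m p) (by
          have := congrArg (fun φ => φ p) sqm.w
          simp only [Scheme.Hom.comp_apply] at this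
          rw [this]
          exact hN'N (pullback.snd (f ∣_ O) q p).2))
    haveI := Groth.Agent.FpqcDescent.isFinite_descendsAlong.{u}
    exact MorphismProperty.of_pullback_snd_of_descendsAlong
      (Q := (@Surjective ⊓ @Flat ⊓ @QuasiCompact : MorphismProperty Scheme.{u}))
      ⟨⟨inferInstance, inferInstance⟩, inferInstance⟩ ‹IsFinite (pullback.snd (f ∣_ O) q)›
  choose O hyO hOle hOfin using hloc
  refine IsZariskiLocalAtTarget.of_iSup_eq_top (P := @IsFinite) (fun y : Yd => Yd.ι ⁻¹ᵁ O y) ?_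
    fun y => ?_
  · rw [eq_top_iff]
    exact fun y _ => TopologicalSpace.Opens.mem_iSup.2 ⟨y, hyO y⟩
  · refine (MorphismProperty.arrow_mk_iso_iff @IsFinite (morphismRestrictRestrict f Yd _)).2 ?_
    have : Yd.ι ''ᵁ Yd.ι ⁻¹ᵁ O y = O y := by
      rw [Scheme.Hom.image_preimage_eq_opensRange_inf, Scheme.Opens.opensRange_ι]
      exact inf_eq_right.2 (hOle y)
    rw [this]
    exact hOfin y

end Groth.Agent.Weighting
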