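import Groth.Agent.Weighting.ConstrScheme

/-!
# Constructibility of the level sets of the fibre integral
-/

set_option autoImplicit false
set_option linter.unusedSectionVars false
set_option linter.style.haveILetI false

universe u

open CategoryTheory CategoryTheory.Limits AlgebraicGeometry Topology
open scoped Set.Notation

namespace Groth.Agent.Weighting

/-- Near every point of an affine base the fibre integral is constant on a constructible set. -/
theorem exists_integral_constr_nhd {X Y : Scheme.{u}} {f : X ⟶ Y} [LocallyQuasiFinite f]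
    [LocallyOfFinitePresentation f] [QuasiCompact f] [QuasiSeparated f] [IsAffine Y]
    {w : X → ℤ} (hw : MoreMor.IsWeighting f w) (y : Y) :
    ∃ (C : Set Y) (c : ℤ), IsConstructible C ∧ y ∈ C ∧
      ∀ y' ∈ C, MoreMor.fibreIntegral f w y' = c := by
  classical
  obtain ⟨Ω, _, _, γ, rfl⟩ : ∃ (Ω : Type u) (_ : Field Ω) (_ : IsAlgClosed Ω)
      (γ : Spec (CommRingCat.of Ω) ⟶ Y), pt γ = y := ⟨_, _, inferInstance, _, pt_geoPt Y y⟩
  have hΦ : (geoFib f γ Set.univ).Finite :=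
    finite_geoFib _ _ _ ((f.finite_preimage_singleton _).inter_of_left _)
  haveI : Finite (geoFib f γ Set.univ) := hΦ
  obtain ⟨V, g, _, γ', hγ', hW⟩ := exists_isolating_family f γ _ hΦ fun χ hχ => hχ.1
  choose W hWfin hWlift using fun χ : geoFib f γ Set.univ => hW χ χ.2
  have hconst : ∀ χ, SumConst f w g (W χ) γ' := fun χ => by
    haveI := hWfin χ; exact sumConst_of_isWeighting hw g (W χ) γ'
  choose Oχ cχ hOχ hcχ using hconst
  obtain ⟨A, hA, hγA, hAO⟩ : ∃ A : V.Opens, IsAffineOpen A ∧ pt γ' ∈ A ∧ ∀ χ, A ≤ Oχ χ := by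
    obtain ⟨_, ⟨A, hA, rfl⟩, hγA, hAO⟩ := V.isBasis_affineOpens.exists_subset_of_mem_open
      (Set.mem_iInter.2 hOχ : pt γ' ∈ ⋂ χ, (Oχ χ : Set V)) (isOpen_iInter_of_finite fun χ => (Oχ χ).2)
    exact ⟨A, hA, hγA, fun χ v hv => Set.mem_iInter.1 (hAO hv) χ⟩
  haveI : IsAffine (A : Scheme.{u}) := hA
  let k := A.ι
  let γA : Spec (CommRingCat.of Ω) ⟶ A := IsOpenImmersion.lift k γ' (by
    rw [range_eq_pt, Set.singleton_subset_iff, Scheme.Opens.range_ι]; exact hγA)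
  have hγA' : γA ≫ k = γ' := IsOpenImmersion.lift_fac _ _ _
  let g' : (A : Scheme.{u}) ⟶ Y := k ≫ g
  haveI : QuasiCompact g' := (quasiCompact_iff_compactSpace g').2 inferInstance
  let snd := pullback.snd f g'
  haveI : CompactSpace ↑(pullback f g') := QuasiCompact.compactSpace_of_compactSpace snd
  haveI : QuasiSeparatedSpace ↑(pullback f g') := quasiSeparatedSpace_of_quasiSeparated snd
  let W' := fun χ => bc f (h := g') k rfl ⁻¹ᵁ W χ
  haveI : ∀ χ, IsFinite ((W' χ).ι ≫ pullback.snd f g') := fun χ => by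
    haveI := hWfin χ; exact isFinite_bc f k rfl (W χ)
  have hW'c : ∀ χ, IsConstructible (W' χ : Set ↑(pullback f g')) := fun χ => by
    haveI : IsAffine (W' χ : Scheme.{u}) := isAffine_of_isAffineHom ((W' χ).ι ≫ pullback.snd f g')
    exact (isCompact_iff_compactSpace.2 (inferInstanceAs (CompactSpace (W' χ : Scheme.{u})))).isConstructible
      (W' χ).2
  let outside : Set ↑(pullback f g') := (⋃ χ, (W' χ : Set _))ᶜ
  let overlap : Set ↑(pullback f g') :=
    ⋃ q : {q : geoFib f γ Set.univ × geoFib f γ Set.univ // q.1 ≠ q.2},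
      (W' q.1.1 : Set _) ∩ W' q.1.2
  have hbadc : IsConstructible (outside ∪ overlap) :=
    (IsConstructible.iUnion fun χ => hW'c χ).compl.union
      (IsConstructible.iUnion fun q => (hW'c _).inter (hW'c _))
  let C' : Set A := (snd '' (outside ∪ overlap))ᶜ
  have hγC : pt γA ∈ C' := by
    rintro ⟨p, hp, hpγ⟩
    obtain ⟨χ', hχ', hχ''⟩ := exists_geo_of_mem hpγ (U := ⊤) (Set.mem_univ p)
    have hmem : χ' ∈ geoFib f γ Set.univ := by
      refine ⟨?_, trivial⟩
      rw [(mem_lifts.1 hχ').1]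
      simp only [g', ← Category.assoc, hγA', hγ']
    have hl : ∀ χ : geoFib f γ Set.univ, lifts f g' (W' χ) γA = {χ.1} := fun χ => by
      rw [lifts_bc, hγA', hWlift]
    rcases hp with hp | hp
    · exact hp (Set.mem_iUnion.2 ⟨⟨χ', hmem⟩, hχ'' _ ((hl ⟨χ', hmem⟩).ge rfl)⟩)
    · obtain ⟨⟨⟨i, j⟩, hne⟩, hi, hj⟩ := Set.mem_iUnion.1 hp
      obtain ⟨χ₀, hχ₀, -⟩ := exists_geo_of_mem (U := W' i ⊓ W' j) hpγ ⟨hi, hj⟩
      obtain ⟨φ, ⟨hφ, h1, h2⟩, rfl⟩ := hχ₀
      have m1 : φ ≫ pullback.fst f g' ∈ lifts f g' (W' i) γA := ⟨φ, ⟨hφ, h1⟩, rfl⟩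
      have m2 : φ ≫ pullback.fst f g' ∈ lifts f g' (W' j) γA := ⟨φ, ⟨hφ, h2⟩, rfl⟩
      rw [hl, Set.mem_singleton_iff] at m1 m2
      exact hne (Subtype.ext (m1.symm.trans m2))
  refine ⟨g' '' C', ∑ᶠ χ, cχ χ, g'.isConstructible_image (snd.isConstructible_image hbadc).compl,
    ⟨pt γA, hγC, by rw [← pt_comp, ← Category.assoc, hγA', hγ']⟩, ?_⟩
  rintro _ ⟨a, ha, rfl⟩
  let δ := geoPt (A : Scheme.{u}) a
  conv_lhs => rw [← pt_geoPt (A : Scheme.{u}) a, ← pt_comp, fibreIntegral_eq]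
  have heq : geoFib f (δ ≫ g') Set.univ = ⋃ χ, lifts f g' (W' χ) δ := by
    ext φ
    simp only [Set.mem_iUnion]
    constructor
    · intro hφ
      by_contra hc
      refine ha ⟨pt (pullback.lift φ δ hφ.1), Or.inl fun hW' => ?_, ?_⟩
      · obtain ⟨χ, hχ⟩ := Set.mem_iUnion.1 hW'
        exact hc ⟨χ, mem_lifts.2 ⟨hφ.1, hχ⟩⟩
      · rw [← pt_comp, pullback.lift_snd, pt_geoPt]
    · rintro ⟨χ, hχ⟩; exact ⟨(mem_lifts.1 hχ).1, trivial⟩
  have hdisj : Pairwise (Function.onFun Disjoint fun χ => lifts f g' (W' χ) δ) := by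
    intro i j hne
    refine Set.disjoint_left.2 ?_
    rintro _ ⟨φ, ⟨hφ, h1⟩, rfl⟩ ⟨φ', ⟨hφ', h2⟩, he⟩
    obtain rfl : φ' = φ := pullback.hom_ext he (hφ'.trans hφ.symm)
    exact ha ⟨pt φ', Or.inr (Set.mem_iUnion.2 ⟨⟨⟨i, j⟩, hne⟩, h1, h2⟩),
      by rw [← pt_comp, hφ', pt_geoPt]⟩
  rw [heq, finsum_mem_iUnion hdisj fun χ => finite_lifts (W' χ) δ]
  refine finsum_congr fun χ => ?_
  rw [← hcχ χ _ (δ ≫ k) (by rw [pt_comp, pt_geoPt]; exact hAO χ a.2), geoSum, ← lifts_bc f k rfl]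

/-- Level sets of the fibre integral are locally constructible. -/
theorem isLocallyConstructible_fibreIntegral_level {X Y : Scheme.{u}} {f : X ⟶ Y}
    [LocallyQuasiFinite f] [LocallyOfFinitePresentation f] [QuasiCompact f] [QuasiSeparated f]
    {w : X → ℤ} (hw : MoreMor.IsWeighting f w) (n : ℤ) :
    IsLocallyConstructible {y : Y | MoreMor.fibreIntegral f w y = n} := by
  intro y
  obtain ⟨U, hU, hyU⟩ : ∃ U : Y.Opens, IsAffineOpen U ∧ y ∈ U := by
    obtain ⟨_, ⟨U, hU, rfl⟩, hyU, -⟩ := Y.isBasis_affineOpens.exists_subset_of_mem_open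
      (Set.mem_univ y) isOpen_univ
    exact ⟨U, hU, hyU⟩
  haveI : IsAffine (U : Scheme.{u}) := hU
  refine ⟨U, U.2.mem_nhds hyU, U.2, ?_⟩
  have hsq := (isPullback_morphismRestrict f U).flip
  have hw' : MoreMor.IsWeighting (f ∣_ U) (w ∘ ⇑(f ⁻¹ᵁ U).ι) := isWeighting_baseChange hw hsq
  choose C c hC hmem hc using fun u => exists_integral_constr_nhd hw' u
  haveI : SpectralSpace (U : Scheme.{u}) := ⟨⟩
  obtain ⟨t, ht⟩ := @IsCompact.elim_finite_subcover (U : Scheme.{u})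
    (constructibleTopology (U : Scheme.{u})) Set.univ _
    (SpecSp.isCompact_cons (@isClosed_univ (U : Scheme.{u}) (constructibleTopology _))) C
    (fun v => (SpecSp.isClopen_cons_of_isConstructible (hC v)).2)
    (fun v _ => Set.mem_iUnion.2 ⟨v, hmem v⟩)
  have hI : ∀ u : (U : Scheme.{u}), MoreMor.fibreIntegral f w u.1 =
      MoreMor.fibreIntegral (f ∣_ U) (w ∘ ⇑(f ⁻¹ᵁ U).ι) u :=
    fun u => (fibreIntegral_baseChange hsq w u).symm
  change IsConstructible ({u : (U : Scheme.{u}) | MoreMor.fibreIntegral f w u.1 = n} :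
    Set (U : Scheme.{u}))
  have : ({u : (U : Scheme.{u}) | MoreMor.fibreIntegral f w u.1 = n} : Set (U : Scheme.{u})) =
      ⋃ v : {v : (U : Scheme.{u}) // v ∈ t ∧ c v = n}, C v.1 := by
    ext u
    simp only [Set.mem_iUnion, Set.mem_ofPred_eq]
    constructor
    · intro hu
      obtain ⟨v, hvt, huv⟩ : ∃ v ∈ t, u ∈ C v := by simpa using ht (Set.mem_univ u)
      exact ⟨⟨v, hvt, (hc v u huv).symm.trans ((hI u).symm.trans hu)⟩, huv⟩
    · intro hu
      obtain ⟨v', hv'⟩ := hu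
      exact (hI u).trans ((hc v'.1 u hv').trans v'.2.2)
  rw [this]
  haveI : Finite {v : (U : Scheme.{u}) // v ∈ t ∧ c v = n} :=
    (t.finite_toSet.subset fun v (hv : v ∈ t ∧ c v = n) => hv.1).to_subtype
  exact IsConstructible.iUnion fun v => hC v.1

end Groth.Agent.Weighting
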