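import Groth.Agent.Weighting.Local

/-!
# Weightings: local constancy through geometric points
-/

set_option autoImplicit false
set_option linter.unusedSectionVars false
set_option linter.style.haveILetI false

universe u

open CategoryTheory CategoryTheory.Limits AlgebraicGeometry

namespace Groth.Agent.Weighting

/-- The geometric sum over `U` is constant near the image of `γ`. -/
def SumConst {X Y V : Scheme.{u}} (f : X ⟶ Y) (w : X → ℤ) (h : V ⟶ Y) (U : Set ↑(pullback f h))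
    {Ω : Type u} [Field Ω] (γ : Spec (CommRingCat.of Ω) ⟶ V) : Prop :=
  ∃ (O : V.Opens) (c : ℤ), pt γ ∈ O ∧ ∀ (Ω' : Type u) [Field Ω'] [IsAlgClosed Ω']
    (δ : Spec (CommRingCat.of Ω') ⟶ V), pt δ ∈ O → geoSum f w h U δ = c

/-- Geometric points lift along surjective étale neighbourhoods. -/
theorem exists_geo_lift {Ω : Type u} [Field Ω] [IsAlgClosed Ω] {V V'' : Scheme.{u}} (k : V'' ⟶ V)
    [LocallyQuasiFinite k] (δ : Spec (CommRingCat.of Ω) ⟶ V) (o : V'') (ho : k o = pt δ) :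
    ∃ δ' : Spec (CommRingCat.of Ω) ⟶ V'', δ' ≫ k = δ ∧ pt δ' = o := by
  obtain ⟨-, ⟨φ, h1, h2⟩, -⟩ := finite_geoFib_singleton k δ o ho
  exact ⟨φ, h1, h2⟩

theorem sumConst_of_etale {X Y V : Scheme.{u}} (f : X ⟶ Y) (w : X → ℤ) (h : V ⟶ Y)
    (U : Set ↑(pullback f h)) {Ω : Type u} [Field Ω] (γ : Spec (CommRingCat.of Ω) ⟶ V)
    {V'' : Scheme.{u}} (k : V'' ⟶ V) [Etale k] (γ'' : Spec (CommRingCat.of Ω) ⟶ V'')
    (hγ : γ'' ≫ k = γ) (O : V''.Opens) (hO : pt γ'' ∈ O) (c : ℤ)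
    (hc : ∀ (Ω' : Type u) [Field Ω'] [IsAlgClosed Ω'] (δ : Spec (CommRingCat.of Ω') ⟶ V''),
      pt δ ∈ O → geoSum f w h U (δ ≫ k) = c) : SumConst f w h U γ := by
  refine ⟨⟨k '' O, k.isOpenMap _ O.2⟩, c, ⟨pt γ'', hO, by rw [← hγ, pt_comp]⟩, fun Ω' _ _ δ hδ => ?_⟩
  obtain ⟨o, ho, hoδ⟩ := hδ
  obtain ⟨δ', rfl, rfl⟩ := exists_geo_lift k δ o hoδ
  exact hc Ω' δ' ho

theorem isLocallyConstant_fibreIntegral {X Y V : Scheme.{u}} (f : X ⟶ Y) [LocallyQuasiFinite f]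
    (w : X → ℤ) (h : V ⟶ Y) (U : (pullback f h).Opens)
    (hU : ∀ (Ω : Type u) [Field Ω] [IsAlgClosed Ω] (γ : Spec (CommRingCat.of Ω) ⟶ V),
      SumConst f w h U γ) :
    IsLocallyConstant (MoreMor.fibreIntegral (U.ι ≫ pullback.snd f h)
      (fun u => w (pullback.fst f h (U.ι u)))) := by
  rw [IsLocallyConstant.iff_exists_open]
  intro v
  obtain ⟨O, c, hO, hc⟩ := hU _ (geoPt V v)
  rw [pt_geoPt] at hO
  have key : ∀ v' ∈ O, MoreMor.fibreIntegral (U.ι ≫ pullback.snd f h)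
      (fun u => w (pullback.fst f h (U.ι u))) v' = c := fun v' hv' => by
    conv_lhs => rw [← pt_geoPt V v']
    rw [fibreIntegral_opens]
    exact hc _ _ (by rwa [pt_geoPt])
  exact ⟨O, O.2, hO, fun v' hv' => (key v' hv').trans (key v hO).symm⟩

theorem sumConst_of_isWeighting {X Y V : Scheme.{u}} {f : X ⟶ Y} [LocallyQuasiFinite f] {w : X → ℤ}
    (hw : MoreMor.IsWeighting f w) (g : V ⟶ Y) [Etale g] (U : (pullback f g).Opens)
    [IsFinite (U.ι ≫ pullback.snd f g)] {Ω : Type u} [Field Ω] [IsAlgClosed Ω]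
    (γ : Spec (CommRingCat.of Ω) ⟶ V) : SumConst f w g U γ := by
  obtain ⟨O, hO, hγO, hc⟩ := (IsLocallyConstant.iff_exists_open _).1 (hw V g U inferInstance) (pt γ)
  refine ⟨⟨O, hO⟩, MoreMor.fibreIntegral (U.ι ≫ pullback.snd f g)
      (fun u => w (pullback.fst f g (U.ι u))) (pt γ), hγO, fun Ω' _ _ δ hδ => ?_⟩
  exact (fibreIntegral_opens w U δ).symm.trans (hc (pt δ) hδ)

theorem finite_lifts_of_mem {X Y V : Scheme.{u}} {f : X ⟶ Y} {g : V ⟶ Y} [LocallyQuasiFinite f]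
    {U : (pullback f g).Opens} (h : IsFinite (U.ι ≫ pullback.snd f g))
    {Ω : Type u} [Field Ω] [IsAlgClosed Ω] (γ : Spec (CommRingCat.of Ω) ⟶ V) :
    (lifts f g U γ).Finite :=
  haveI := h
  finite_lifts U γ

/-- It suffices to check constancy on pieces with a single geometric point over étale `Y`-schemes. -/
theorem sumConst_of_pieces {X Y : Scheme.{u}} (f : X ⟶ Y) [LocallyQuasiFinite f]
    [LocallyOfFiniteType f] (w : X → ℤ)
    (H : ∀ (V : Scheme.{u}) (g : V ⟶ Y) [Etale g] (W : (pullback f g).Opens)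
      [IsFinite (W.ι ≫ pullback.snd f g)] (Ω : Type u) [Field Ω] [IsAlgClosed Ω]
      (γ : Spec (CommRingCat.of Ω) ⟶ V) (χ : Spec (CommRingCat.of Ω) ⟶ X),
      lifts f g W γ = {χ} → SumConst f w g W γ)
    {V' : Scheme.{u}} (h : V' ⟶ Y) (U : (pullback f h).Opens) [IsFinite (U.ι ≫ pullback.snd f h)]
    {Ω : Type u} [Field Ω] [IsAlgClosed Ω] (γ : Spec (CommRingCat.of Ω) ⟶ V') :
    SumConst f w h U γ := by
  obtain ⟨V'', k, _, γ'', V, g, _, l, W, O, hγ, hl, hWfin, hWlift, hO, hdec⟩ := exists_decomp f h U γ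
  haveI : Finite (lifts f h U γ) := finite_lifts U γ
  have hpiece : ∀ χ, SumConst f w g (W χ) (γ'' ≫ l) := fun χ => by
    haveI := hWfin χ; exact H V g (W χ) Ω _ _ (hWlift χ)
  choose Oχ cχ hOχ hcχ using hpiece
  let O' : V''.Opens := O ⊓ ⟨⋂ χ, l ⁻¹ᵁ Oχ χ, isOpen_iInter_of_finite fun χ => (l ⁻¹ᵁ Oχ χ).2⟩
  refine sumConst_of_etale f w h U γ k γ'' hγ O' ⟨hO, Set.mem_iInter.2 fun χ => ?_⟩ (∑ᶠ χ, cχ χ)
    fun Ω' _ _ δ hδ => ?_
  · exact show l (pt γ'') ∈ Oχ χ from pt_comp γ'' l ▸ hOχ χ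
  · obtain ⟨heq, hdisj⟩ := hdec Ω' δ hδ.1
    rw [geoSum, heq, finsum_mem_iUnion hdisj fun χ => finite_lifts_of_mem (hWfin χ) _]
    refine finsum_congr fun χ => hcχ χ Ω' _ ?_
    rw [pt_comp]
    exact Set.mem_iInter.1 hδ.2 χ

/-- A weighting has locally constant sums after every base change. -/
theorem sumConst_baseChange {X Y V' : Scheme.{u}} {f : X ⟶ Y} [LocallyQuasiFinite f]
    [LocallyOfFiniteType f] {w : X → ℤ} (hw : MoreMor.IsWeighting f w) (h : V' ⟶ Y)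
    (U : (pullback f h).Opens) [IsFinite (U.ι ≫ pullback.snd f h)] {Ω : Type u} [Field Ω]
    [IsAlgClosed Ω] (γ : Spec (CommRingCat.of Ω) ⟶ V') : SumConst f w h U γ :=
  sumConst_of_pieces f w (fun _ g _ W _ _ _ _ γ' _ _ => sumConst_of_isWeighting hw g W γ') h U γ

/-- The fibre integral commutes with base change. -/
theorem fibreIntegral_baseChange {U V U' V' : Scheme.{u}} {π : U ⟶ V} [LocallyQuasiFinite π]
    {π' : U' ⟶ V'} {h : U' ⟶ U} {g : V' ⟶ V} (hc : IsPullback h π' π g) (w : U → ℤ) (v' : V') :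
    MoreMor.fibreIntegral π' (w ∘ ⇑h) v' = MoreMor.fibreIntegral π w (g v') := by
  haveI : LocallyQuasiFinite π' := MorphismProperty.of_isPullback hc ‹_›
  conv_lhs => rw [← pt_geoPt V' v']
  conv_rhs => rw [← pt_geoPt V' v', ← pt_comp]
  rw [fibreIntegral_eq, fibreIntegral_eq]
  have himg : geoFib π (geoPt V' v' ≫ g) Set.univ =
      (fun φ => φ ≫ h) '' geoFib π' (geoPt V' v') Set.univ := by
    ext φ
    constructor
    · intro hφ
      exact ⟨hc.lift φ (geoPt V' v') hφ.1, ⟨hc.lift_snd _ _ _, trivial⟩, hc.lift_fst _ _ _⟩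
    · rintro ⟨φ', ⟨hφ', -⟩, rfl⟩
      exact ⟨by rw [Category.assoc, hc.w, reassoc_of% hφ'], trivial⟩
  rw [himg, finsum_mem_image (fun a ha b hb he => hc.hom_ext he (ha.1.trans hb.1.symm))]
  exact finsum_mem_congr rfl fun φ _ => congrArg w (pt_comp φ h).symm

theorem isWeighting_baseChange {X Y X' Y' : Scheme.{u}} {f : X ⟶ Y} [LocallyQuasiFinite f]
    [LocallyOfFiniteType f] {w : X → ℤ} (hw : MoreMor.IsWeighting f w)
    {f' : X' ⟶ Y'} {h : X' ⟶ X} {g : Y' ⟶ Y} (hc : IsPullback h f' f g) :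
    MoreMor.IsWeighting f' (w ∘ ⇑h) := by
  intro V g₂ _ U hU
  let sq := (IsPullback.of_hasPullback f' g₂).paste_horiz hc
  let e := sq.isoPullback
  have he₁ : e.hom ≫ pullback.fst f (g₂ ≫ g) = pullback.fst f' g₂ ≫ h := sq.isoPullback_hom_fst
  have he₂ : e.hom ≫ pullback.snd f (g₂ ≫ g) = pullback.snd f' g₂ := sq.isoPullback_hom_snd
  let U' : (pullback f (g₂ ≫ g)).Opens := e.inv ⁻¹ᵁ U
  let π' := U'.ι ≫ pullback.snd f (g₂ ≫ g)
  have hπ : (e.inv ∣_ U) ≫ U.ι ≫ pullback.snd f' g₂ = π' := by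
    rw [morphismRestrict_ι_assoc, ← he₂, e.inv_hom_id_assoc]
  have hπ' : U.ι ≫ pullback.snd f' g₂ = inv (e.inv ∣_ U) ≫ π' := by rw [← hπ, IsIso.inv_hom_id_assoc]
  haveI : IsFinite π' := by
    rw [← hπ]
    exact (MorphismProperty.cancel_left_of_respectsIso @IsFinite (e.inv ∣_ U) _).2 hU
  have key := isLocallyConstant_fibreIntegral f w (g₂ ≫ g) U'
    fun Ω _ _ γ => sumConst_baseChange hw (g₂ ≫ g) U' γ
  convert key using 1
  ext v
  have hsq : IsPullback (inv (e.inv ∣_ U)) (U.ι ≫ pullback.snd f' g₂) π' (𝟙 V) :=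
    IsPullback.of_horiz_isIso ⟨by rw [Category.comp_id, hπ']⟩
  refine Eq.trans ?_ (fibreIntegral_baseChange hsq (fun u => w (pullback.fst f (g₂ ≫ g) (U'.ι u))) v)
  congr 1
  funext u
  simp only [Function.comp_apply]
  congr 1
  rw [← Scheme.Hom.comp_apply, ← Scheme.Hom.comp_apply, ← Scheme.Hom.comp_apply]
  have : inv (e.inv ∣_ U) ≫ U'.ι ≫ pullback.fst f (g₂ ≫ g) = U.ι ≫ pullback.fst f' g₂ ≫ h := by
    rw [IsIso.inv_comp_eq, morphismRestrict_ι_assoc, ← he₁, e.inv_hom_id_assoc]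
  rw [← this, Scheme.Hom.comp_apply]

/-- Composition of weightings. -/
theorem sumConst_comp {X Y Z : Scheme.{u}} {f : X ⟶ Y} {g : Y ⟶ Z} [LocallyQuasiFinite f]
    [LocallyOfFiniteType f] [LocallyQuasiFinite g] [LocallyOfFiniteType g] {wf : X → ℤ} {wg : Y → ℤ}
    (hf : MoreMor.IsWeighting f wf) (hg : MoreMor.IsWeighting g wg)
    (V : Scheme.{u}) (e : V ⟶ Z) [Etale e] (A : (pullback (f ≫ g) e).Opens)
    [IsFinite (A.ι ≫ pullback.snd (f ≫ g) e)] (Ω : Type u) [Field Ω] [IsAlgClosed Ω]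
    (γ : Spec (CommRingCat.of Ω) ⟶ V) (φ : Spec (CommRingCat.of Ω) ⟶ X)
    (hA : lifts (f ≫ g) e A γ = {φ}) :
    SumConst (f ≫ g) (fun x => wf x * wg (f x)) e A γ := by
  obtain ⟨hφ, -⟩ := mem_lifts.1 (hA.ge rfl)
  obtain ⟨V₂, e₂, _, γ₂, W₂, _, hγ₂, hW₂⟩ := exists_isolating g (γ ≫ e) (φ ≫ f)
    ((Category.assoc _ _ _).trans hφ)
  let V₃ := pullback e e₂
  let k₀ := pullback.fst e e₂
  let l₀ := pullback.snd e e₂
  let h₃ : V₃ ⟶ Z := k₀ ≫ e
  let γ₃ : Spec (CommRingCat.of Ω) ⟶ V₃ := pullback.lift γ γ₂ hγ₂.symm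
  let A₃ := bc (f ≫ g) (h := h₃) k₀ rfl ⁻¹ᵁ A
  let W₃ := bc g (h := h₃) l₀ pullback.condition.symm ⁻¹ᵁ W₂
  haveI : IsFinite (A₃.ι ≫ pullback.snd (f ≫ g) h₃) := isFinite_bc _ k₀ rfl A
  haveI : IsFinite (W₃.ι ≫ pullback.snd g h₃) := isFinite_bc _ l₀ _ W₂
  have hA₃ : lifts (f ≫ g) h₃ A₃ γ₃ = {φ} := by rw [lifts_bc, pullback.lift_fst, hA]
  have hW₃ : lifts g h₃ W₃ γ₃ = {φ ≫ f} := by rw [lifts_bc, pullback.lift_snd, hW₂]
  let F₃ : pullback (f ≫ g) h₃ ⟶ pullback g h₃ :=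
    pullback.lift (pullback.fst _ _ ≫ f) (pullback.snd _ _) (by rw [Category.assoc, pullback.condition])
  let O : V₃.Opens := ⟨(pullback.snd (f ≫ g) h₃ '' (↑A₃ \ ↑(F₃ ⁻¹ᵁ W₃)))ᶜ,
    (isClosed_image_snd _ _ (F₃ ⁻¹ᵁ W₃).2).isOpen_compl⟩
  have hO : pt γ₃ ∈ O := by
    rintro ⟨p, ⟨hpA, hpW⟩, hp⟩
    obtain ⟨-, ⟨ψ, hψ, (hψp : pt ψ = p)⟩, -⟩ :=
      finite_geoFib_singleton (pullback.snd (f ≫ g) h₃) γ₃ p hp
    have h1 : ψ ≫ pullback.fst (f ≫ g) h₃ = φ := hA₃.le ⟨ψ, ⟨hψ, hψp ▸ hpA⟩, rfl⟩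
    obtain ⟨ψ', ⟨hψ', hW'⟩, hψ''⟩ := hW₃.ge (show φ ≫ f ∈ ({φ ≫ f} : Set _) from rfl)
    have h2 : ψ ≫ F₃ = ψ' := pullback.hom_ext
      (by simp only [F₃, Category.assoc, pullback.lift_fst]; rw [reassoc_of% h1]; exact hψ''.symm)
      (by simp only [F₃, Category.assoc, pullback.lift_snd]; exact hψ.trans hψ'.symm)
    apply hpW
    change F₃ p ∈ W₃
    rw [← hψp, ← pt_comp, h2]
    exact hW'
  let k : (O : Scheme.{u}) ⟶ V := O.ι ≫ k₀
  let h := k ≫ e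
  let γ₄ := IsOpenImmersion.lift O.ι γ₃ (by
    rw [range_eq_pt, Set.singleton_subset_iff, Scheme.Opens.range_ι]; exact hO)
  have hγ₄ : γ₄ ≫ O.ι = γ₃ := IsOpenImmersion.lift_fac _ _ _
  have hγk : γ₄ ≫ k = γ := by rw [← Category.assoc, hγ₄]; exact pullback.lift_fst _ _ _
  have hh : O.ι ≫ h₃ = h := (Category.assoc _ _ _).symm
  let A₄ := bc (f ≫ g) (h := h) O.ι hh ⁻¹ᵁ A₃
  let W₄ := bc g (h := h) O.ι hh ⁻¹ᵁ W₃
  haveI : IsFinite (A₄.ι ≫ pullback.snd (f ≫ g) h) := isFinite_bc _ _ hh A₃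
  haveI : IsFinite (W₄.ι ≫ pullback.snd g h) := isFinite_bc _ _ hh W₃
  let F : pullback (f ≫ g) h ⟶ pullback g h :=
    pullback.lift (pullback.fst _ _ ≫ f) (pullback.snd _ _) (by rw [Category.assoc, pullback.condition])
  have hAW : A₄ ≤ F ⁻¹ᵁ W₄ := by
    intro p hp
    have hFbc : F ≫ bc g O.ι hh = bc (f ≫ g) O.ι hh ≫ F₃ := by
      apply pullback.hom_ext <;> rw [Category.assoc, Category.assoc]
      · exact ((congrArg (_ ≫ ·) (pullback.lift_fst _ _ _)).trans (pullback.lift_fst _ _ _)).trans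
          ((congrArg (_ ≫ ·) (pullback.lift_fst _ _ _)).trans (pullback.lift_fst_assoc _ _ _ _)).symm
      · exact ((congrArg (_ ≫ ·) (pullback.lift_snd _ _ _)).trans (pullback.lift_snd_assoc _ _ _ _)).trans
          ((congrArg (_ ≫ ·) (pullback.lift_snd _ _ _)).trans (pullback.lift_snd _ _ _)).symm
    change bc g O.ι hh (F p) ∈ W₃
    rw [← Scheme.Hom.comp_apply, hFbc, Scheme.Hom.comp_apply]
    by_contra hW
    have hsnd : pullback.snd (f ≫ g) h₃ (bc (f ≫ g) O.ι hh p) = O.ι (pullback.snd (f ≫ g) h p) := by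
      rw [← Scheme.Hom.comp_apply, ← Scheme.Hom.comp_apply, bc, pullback.lift_snd]
    exact (pullback.snd (f ≫ g) h p).2 ⟨_, ⟨hp, hW⟩, hsnd⟩
  let q : (W₄ : Scheme.{u}) ⟶ Y := W₄.ι ≫ pullback.fst g h
  haveI : Etale q := inferInstance
  let m : pullback f q ⟶ pullback (f ≫ g) h :=
    pullback.lift (pullback.fst f q) (pullback.snd f q ≫ W₄.ι ≫ pullback.snd g h)
      (by rw [pullback.condition_assoc, Category.assoc, Category.assoc, Category.assoc,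
        ← pullback.condition])
  have sqF : IsPullback (pullback.fst (f ≫ g) h) F f (pullback.fst g h) :=
    IsPullback.of_bot (by rw [pullback.lift_snd]; exact IsPullback.of_hasPullback (f ≫ g) h)
      (pullback.lift_fst _ _ _).symm (IsPullback.of_hasPullback g h)
  have sqm : IsPullback m (pullback.snd f q) F W₄.ι := by
    refine IsPullback.of_right ?_ ?_ sqF
    · rw [pullback.lift_fst]; exact IsPullback.of_hasPullback f q
    · apply pullback.hom_ext <;> rw [Category.assoc, Category.assoc]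
      · exact ((congrArg (_ ≫ ·) (pullback.lift_fst _ _ _)).trans (pullback.lift_fst_assoc _ _ _ _)).trans
          pullback.condition
      · exact (congrArg (_ ≫ ·) (pullback.lift_snd _ _ _)).trans (pullback.lift_snd _ _ _)
  haveI : IsOpenImmersion m := MorphismProperty.of_isPullback sqm.flip inferInstance
  let UA := m ⁻¹ᵁ A₄
  have hrm : ∀ p ∈ A₄, p ∈ Set.range m := by
    intro p hp
    have hr : Set.range (A₄.ι ≫ F) ⊆ Set.range W₄.ι := by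
      rintro _ ⟨z, rfl⟩
      rw [Scheme.Opens.range_ι, Scheme.Hom.comp_apply]
      exact hAW z.2
    refine ⟨sqm.lift A₄.ι (IsOpenImmersion.lift W₄.ι (A₄.ι ≫ F) hr)
      (IsOpenImmersion.lift_fac _ _ _).symm ⟨p, hp⟩, ?_⟩
    rw [← Scheme.Hom.comp_apply, sqm.lift_fst]
    rfl
  haveI : IsIso (m ∣_ A₄) := by
    rw [isIso_iff_isOpenImmersion_and_surjective]
    refine ⟨inferInstance, ⟨fun p => ?_⟩⟩
    obtain ⟨z, hz⟩ := hrm p.1 p.2
    exact ⟨⟨z, show m z ∈ A₄ from hz ▸ p.2⟩, Subtype.ext ((morphismRestrict_base_coe m A₄ _).trans hz)⟩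
  haveI : IsFinite (UA.ι ≫ pullback.snd f q) := by
    haveI : IsFinite ((UA.ι ≫ pullback.snd f q) ≫ W₄.ι ≫ pullback.snd g h) := by
      have : (UA.ι ≫ pullback.snd f q) ≫ W₄.ι ≫ pullback.snd g h =
          (m ∣_ A₄) ≫ A₄.ι ≫ pullback.snd (f ≫ g) h := by
        rw [morphismRestrict_ι_assoc, pullback.lift_snd, Category.assoc]
      rw [this]; infer_instance
    exact IsFinite.of_comp _ (W₄.ι ≫ pullback.snd g h)
  -- the point of `W₄` over `γ₄`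
  have hW₄ : lifts g h W₄ γ₄ = {φ ≫ f} := by rw [lifts_bc, hγ₄, hW₃]
  obtain ⟨ψ₀, ⟨hψ₀, hψ₀W⟩, hψ₀f⟩ := hW₄.ge (show φ ≫ f ∈ ({φ ≫ f} : Set _) from rfl)
  let ψ₀' := IsOpenImmersion.lift W₄.ι ψ₀ (by
    rw [range_eq_pt, Set.singleton_subset_iff, Scheme.Opens.range_ι]; exact hψ₀W)
  obtain ⟨N, c, hN, hNc⟩ := sumConst_of_isWeighting hf q UA ψ₀'
  obtain ⟨O₂, d, hO₂, hd⟩ := sumConst_of_isWeighting hg h W₄ γ₄
  let O' : (O : Scheme.{u}).Opens :=
    O₂ ⊓ ⟨((W₄.ι ≫ pullback.snd g h) '' (↑N)ᶜ)ᶜ,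
      ((W₄.ι ≫ pullback.snd g h).isClosedMap _ N.2.isClosed_compl).isOpen_compl⟩
  have hO' : pt γ₄ ∈ O' := by
    refine ⟨hO₂, ?_⟩
    rintro ⟨z, hz, hzγ⟩
    obtain ⟨-, ⟨ψ, hψ, (hψz : pt ψ = z)⟩, -⟩ :=
      finite_geoFib_singleton (W₄.ι ≫ pullback.snd g h) γ₄ z hzγ
    have : ψ ≫ W₄.ι ≫ pullback.fst g h ∈ lifts g h W₄ γ₄ :=
      ⟨ψ ≫ W₄.ι, ⟨(Category.assoc _ _ _).trans hψ, by rw [pt_comp]; exact (pt ψ).2⟩, Category.assoc _ _ _⟩
    rw [hW₄, Set.mem_singleton_iff, ← hψ₀f] at this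
    have h2 : ψ ≫ W₄.ι = ψ₀ := pullback.hom_ext ((Category.assoc _ _ _).trans this)
      (((Category.assoc _ _ _).trans hψ).trans hψ₀.symm)
    have h3 : ψ = ψ₀' := (cancel_mono W₄.ι).1 (h2.trans (IsOpenImmersion.lift_fac _ _ _).symm)
    exact hz (hψz ▸ h3 ▸ hN)
  refine sumConst_of_etale _ _ e (A : Set ↑(pullback (f ≫ g) e)) γ k γ₄ hγk O' hO' (c * d) fun Ω' _ _ δ hδ => ?_
  have hA₄ : lifts (f ≫ g) h ↑A₄ δ = lifts (f ≫ g) e A (δ ≫ k) := by
    rw [lifts_bc, lifts_bc]; exact congrArg _ (Category.assoc _ _ _)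
  rw [geoSum, ← hA₄]
  let Ψ := geoFib (W₄.ι ≫ pullback.snd g h) δ Set.univ
  have hΨfin : Ψ.Finite := finite_geoFib _ _ _
    (((W₄.ι ≫ pullback.snd g h).finite_preimage_singleton _).inter_of_left _)
  have hunion : lifts (f ≫ g) h ↑A₄ δ = ⋃ ψ ∈ Ψ, lifts f q UA ψ := by
    ext χ
    simp only [Set.mem_iUnion]
    constructor
    · rintro ⟨a, ⟨ha, haA⟩, rfl⟩
      have hr : Set.range (a ≫ F) ⊆ Set.range W₄.ι := by
        rw [range_eq_pt, Set.singleton_subset_iff, Scheme.Opens.range_ι, pt_comp]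
        exact hAW haA
      have hl := IsOpenImmersion.lift_fac W₄.ι (a ≫ F) hr
      let b := sqm.lift a (IsOpenImmersion.lift W₄.ι (a ≫ F) hr) hl.symm
      refine ⟨IsOpenImmersion.lift W₄.ι (a ≫ F) hr, ⟨?_, trivial⟩, b, ⟨sqm.lift_snd _ _ _, ?_⟩, ?_⟩
      · rw [reassoc_of% hl, pullback.lift_snd, ha]
      · change m (pt b) ∈ A₄
        rw [← pt_comp, sqm.lift_fst]; exact haA
      · have : b ≫ m ≫ pullback.fst (f ≫ g) h = a ≫ pullback.fst (f ≫ g) h := by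
          rw [← Category.assoc, sqm.lift_fst]
        exact ((congrArg (b ≫ ·) (pullback.lift_fst _ _ _)).symm.trans this)
    · rintro ⟨ψ, ⟨hψ, -⟩, b, ⟨hb, hbA⟩, rfl⟩
      refine ⟨b ≫ m, ⟨?_, ?_⟩, ?_⟩
      · rw [Category.assoc, pullback.lift_snd, reassoc_of% hb, hψ]
      · rw [pt_comp]; exact hbA
      · exact (Category.assoc _ _ _).trans (congrArg (b ≫ ·) (pullback.lift_fst _ _ _))
  rw [hunion, finsum_mem_biUnion ?_ hΨfin fun ψ _ => finite_lifts UA ψ]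
  · have hterm : ∀ ψ ∈ Ψ, ∑ᶠ χ ∈ lifts f q UA ψ, wf (pt χ) * wg (f (pt χ)) =
        c * wg (pullback.fst g h (W₄.ι (pt ψ))) := by
      intro ψ hψ
      have hval : ∀ χ ∈ lifts f q UA ψ, wf (pt χ) * wg (f (pt χ)) =
          wf (pt χ) * wg (pullback.fst g h (W₄.ι (pt ψ))) := by
        intro χ hχ
        obtain ⟨H, -⟩ := mem_lifts.1 hχ
        rw [← pt_comp, H, pt_comp, Scheme.Hom.comp_apply]
      rw [finsum_mem_congr rfl hval, ← finsum_mem_mul' _ _ (finite_lifts UA ψ)]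
      congr 1
      refine hNc Ω' ψ ?_
      by_contra hψN
      exact hδ.2 ⟨pt ψ, hψN, by rw [← pt_comp, hψ.1]⟩
    rw [finsum_mem_congr rfl hterm, ← mul_finsum_mem' _ _ hΨfin]
    congr 1
    rw [← hd Ω' δ hδ.1, geoSum_eq, ← geoFib_image_opens,
      finsum_mem_image (fun _ _ _ _ he => (cancel_mono W₄.ι).1 he)]
    exact finsum_mem_congr rfl fun ψ _ => by rw [pt_comp]
  · intro ψ hψ ψ' hψ' hne
    refine Set.disjoint_left.2 ?_
    rintro _ ⟨b, ⟨hb, -⟩, rfl⟩ ⟨b', ⟨hb', -⟩, he⟩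
    apply hne
    apply (cancel_mono W₄.ι).1
    apply pullback.hom_ext
    · rw [Category.assoc, Category.assoc, ← hb, ← hb']
      change (b ≫ pullback.snd f q) ≫ q = (b' ≫ pullback.snd f q) ≫ q
      rw [Category.assoc, Category.assoc, ← pullback.condition, ← Category.assoc, ← Category.assoc,
        show b' ≫ pullback.fst f q = b ≫ pullback.fst f q from he]
    · rw [Category.assoc, Category.assoc, hψ.1, hψ'.1]

theorem isWeighting_comp {X Y Z : Scheme.{u}} {f : X ⟶ Y} {g : Y ⟶ Z} [LocallyQuasiFinite f]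
    [LocallyOfFiniteType f] [LocallyQuasiFinite g] [LocallyOfFiniteType g] {wf : X → ℤ} {wg : Y → ℤ}
    (hf : MoreMor.IsWeighting f wf) (hg : MoreMor.IsWeighting g wg) :
    MoreMor.IsWeighting (f ≫ g) (fun x => wf x * wg (f x)) := by
  intro V e _ U hU
  exact isLocallyConstant_fibreIntegral (f ≫ g) (fun x => wf x * wg (f x)) e U fun Ω _ _ γ =>
    sumConst_of_pieces (f ≫ g) _ (fun V' e' _ A _ Ω' _ _ γ' φ' hA =>
      sumConst_comp hf hg V' e' A Ω' γ' φ' hA) e U γ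

/-- A positive weighting forces the morphism to be open. -/
theorem isOpenMap_of_weighting {X Y : Scheme.{u}} {f : X ⟶ Y} [LocallyQuasiFinite f]
    [LocallyOfFiniteType f] {w : X → ℤ} (hw : MoreMor.IsWeighting f w) (hpos : ∀ x, 0 < w x) :
    IsOpenMap f := by
  intro S hS
  rw [isOpen_iff_forall_mem_open]
  rintro _ ⟨x, hxS, rfl⟩
  obtain ⟨Ω, _, _, χ, rfl⟩ : ∃ (Ω : Type u) (_ : Field Ω) (_ : IsAlgClosed Ω)
      (χ : Spec (CommRingCat.of Ω) ⟶ X), pt χ = x := ⟨_, _, inferInstance, _, pt_geoPt X x⟩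
  obtain ⟨V, g, _, γ, W, _, hγ, hW⟩ := exists_isolating f (χ ≫ f) χ rfl
  obtain ⟨O, c, hO, hc⟩ := sumConst_of_isWeighting hw g W γ
  have hc0 : 0 < c := by
    rw [← hc Ω γ hO, geoSum, hW, finsum_mem_singleton]; exact hpos _
  let bad := pullback.snd f g '' (↑W \ pullback.fst f g ⁻¹' S)
  refine ⟨g '' (↑O \ bad), ?_, g.isOpenMap _ ?_, ⟨pt γ, ⟨hO, ?_⟩, ?_⟩⟩
  · rintro _ ⟨v, ⟨hvO, hvb⟩, rfl⟩
    have h1 := hc _ (geoPt V v) (by rwa [pt_geoPt])
    obtain ⟨χ', hχ'⟩ : (lifts f g W (geoPt V v)).Nonempty := by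
      by_contra hne
      rw [Set.not_nonempty_iff_eq_empty] at hne
      rw [geoSum, hne, finsum_mem_empty] at h1
      omega
    obtain ⟨p, ⟨hp, hpW⟩, rfl⟩ := hχ'
    refine ⟨pt (p ≫ pullback.fst f g), ?_, ?_⟩
    · by_contra hS'
      exact hvb ⟨pt p, ⟨hpW, by rwa [pt_comp] at hS'⟩, by rw [← pt_comp, hp, pt_geoPt]⟩
    · rw [← pt_comp, Category.assoc, pullback.condition, reassoc_of% hp, pt_comp, pt_geoPt]
  · exact O.2.sdiff (isClosed_image_snd _ _ (hS.preimage (pullback.fst f g).continuous))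
  · rintro ⟨p, ⟨hpW, hpS⟩, hp⟩
    obtain ⟨χ', hχ', hχ''⟩ := exists_geo_of_mem hp hpW
    obtain ⟨-, ⟨ψ, hψ, (hψp : pt ψ = p)⟩, -⟩ := finite_geoFib_singleton (pullback.snd f g) γ p hp
    have h1 : ψ ≫ pullback.fst f g = χ := hW.le ⟨ψ, ⟨hψ, hψp ▸ hpW⟩, rfl⟩
    apply hpS
    rw [Set.mem_preimage, ← hψp, ← pt_comp, h1]
    exact hxS
  · rw [← pt_comp, hγ, pt_comp]

theorem universallyOpen_of_weighting {X Y : Scheme.{u}} {f : X ⟶ Y} [LocallyQuasiFinite f]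
    [LocallyOfFiniteType f] {w : X → ℤ} (hw : MoreMor.IsWeighting f w) (hpos : ∀ x, 0 < w x) :
    UniversallyOpen f :=
  ⟨fun X' Y' h g f' hc' => by
    have hc := hc'.flip
    haveI : LocallyQuasiFinite f' := MorphismProperty.of_isPullback hc ‹_›
    haveI : LocallyOfFiniteType f' := MorphismProperty.of_isPullback hc ‹_›
    exact isOpenMap_of_weighting (isWeighting_baseChange hw hc) fun x => hpos _⟩

/-- A positive weighting is upper semicontinuous. -/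
theorem upperSemicontinuous_weighting {X Y : Scheme.{u}} {f : X ⟶ Y} [LocallyQuasiFinite f]
    [LocallyOfFiniteType f] {w : X → ℤ} (hw : MoreMor.IsWeighting f w) (hpos : ∀ x, 0 < w x) :
    UpperSemicontinuous w := by
  intro x a hxa
  obtain ⟨Ω, _, _, χ, rfl⟩ : ∃ (Ω : Type u) (_ : Field Ω) (_ : IsAlgClosed Ω)
      (χ : Spec (CommRingCat.of Ω) ⟶ X), pt χ = x := ⟨_, _, inferInstance, _, pt_geoPt X x⟩
  obtain ⟨V, g, _, γ, W, _, hγ, hW⟩ := exists_isolating f (χ ≫ f) χ rfl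
  obtain ⟨O, c, hO, hc⟩ := sumConst_of_isWeighting hw g W γ
  have hc0 : c = w (pt χ) := by rw [← hc Ω γ hO, geoSum, hW, finsum_mem_singleton]
  let W' : (pullback f g).Opens := W ⊓ pullback.snd f g ⁻¹ᵁ O
  rw [Filter.Eventually, mem_nhds_iff]
  refine ⟨pullback.fst f g '' W', ?_, (pullback.fst f g).isOpenMap _ W'.2, ?_⟩
  · rintro _ ⟨p, ⟨hpW, hpO⟩, rfl⟩
    have hsum := hc _ (geoPt V (pullback.snd f g p)) (by rw [pt_geoPt]; exact hpO)
    obtain ⟨χ', hχ', -⟩ := exists_geo_of_mem (pt_geoPt V (pullback.snd f g p)).symm hpW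
    obtain ⟨-, ⟨ψ, hψ, (hψp : pt ψ = p)⟩, -⟩ := finite_geoFib_singleton (pullback.snd f g)
      (geoPt V (pullback.snd f g p)) p (pt_geoPt _ _).symm
    have hfin : (lifts f g W (geoPt V (pullback.snd f g p))).Finite := finite_lifts W _
    rw [geoSum, finsum_mem_eq_finite_toFinset_sum _ hfin] at hsum
    have hle : w (pt (ψ ≫ pullback.fst f g)) ≤
        ∑ i ∈ hfin.toFinset, w (pt i) :=
      Finset.single_le_sum (f := fun i => w (pt i)) (fun i _ => (hpos _).le)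
        (hfin.mem_toFinset.2 ⟨ψ, ⟨hψ, show pt ψ ∈ W from hψp.symm ▸ hpW⟩, rfl⟩)
    rw [pt_comp, hψp, hsum, hc0] at hle
    exact hle.trans_lt hxa
  · obtain ⟨ψ, ⟨hψ, hψW⟩, hψχ⟩ := hW.ge (show χ ∈ ({χ} : Set _) from rfl)
    refine ⟨pt ψ, ⟨hψW, ?_⟩, ?_⟩
    · change pullback.snd f g (pt ψ) ∈ O
      rwa [← pt_comp, hψ]
    · rw [← pt_comp]; exact congrArg pt hψχ

theorem exists_open_le_fibreIntegral {X Y : Scheme.{u}} {f : X ⟶ Y} [LocallyQuasiFinite f]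
    [LocallyOfFiniteType f] [IsSeparated f] (hfin : ∀ y : Y, (f ⁻¹' {y}).Finite) {w : X → ℤ}
    (hw : MoreMor.IsWeighting f w) (hpos : ∀ x, 0 < w x) (y : Y) :
    ∃ O : Set Y, IsOpen O ∧ y ∈ O ∧
      ∀ y' ∈ O, MoreMor.fibreIntegral f w y ≤ MoreMor.fibreIntegral f w y' := by
  obtain ⟨Ω, _, _, γ, rfl⟩ : ∃ (Ω : Type u) (_ : Field Ω) (_ : IsAlgClosed Ω)
      (γ : Spec (CommRingCat.of Ω) ⟶ Y), pt γ = y := ⟨_, _, inferInstance, _, pt_geoPt Y y⟩
  have hΦ : (geoFib f γ Set.univ).Finite := finite_geoFib _ _ _ ((hfin _).inter_of_left _)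
  haveI : Finite (geoFib f γ Set.univ) := hΦ
  obtain ⟨V, g, _, γ', hγ', hW⟩ := exists_isolating_family f γ _ hΦ fun χ hχ => hχ.1
  choose W hWfin hWlift using fun χ : geoFib f γ Set.univ => hW χ χ.2
  have hconst : ∀ χ, SumConst f w g (W χ) γ' := fun χ => by
    haveI := hWfin χ; exact sumConst_of_isWeighting hw g (W χ) γ'
  choose Oχ cχ hOχ hcχ using hconst
  -- pairwise overlaps have closed image
  have hclosed : ∀ i j, IsClosed (pullback.snd f g '' (↑(W i) ∩ ↑(W j))) := by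
    intro i j
    haveI := hWfin i; haveI := hWfin j
    haveI : IsFinite ((W j).ι) := IsFinite.of_comp _ (pullback.snd f g)
    have hcl : IsClosed (↑(W j) : Set ↑(pullback f g)) := by
      rw [← Scheme.Opens.range_ι (W j)]
      exact (W j).ι.isClosedMap.isClosed_range
    have := isClosed_image_snd (W i) (↑(W j))ᶜ hcl.isOpen_compl
    rwa [sdiff_compl] at this
  let bad : Set V := ⋃ q : {q : geoFib f γ Set.univ × geoFib f γ Set.univ // q.1 ≠ q.2},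
    pullback.snd f g '' (↑(W q.1.1) ∩ ↑(W q.1.2))
  have hbad : IsClosed bad := isClosed_iUnion_of_finite fun q => hclosed _ _
  have hγbad : pt γ' ∉ bad := by
    simp only [bad, Set.mem_iUnion, not_exists]
    rintro ⟨⟨i, j⟩, hne⟩ ⟨p, ⟨hi, hj⟩, hp⟩
    obtain ⟨χ, hχ, hχ'⟩ := exists_geo_of_mem (U := W i ⊓ W j) hp ⟨hi, hj⟩
    obtain ⟨φ, ⟨hφ, h1, h2⟩, rfl⟩ := hχ
    have m1 : φ ≫ pullback.fst f g ∈ lifts f g (W i) γ' := ⟨φ, ⟨hφ, h1⟩, rfl⟩
    have m2 : φ ≫ pullback.fst f g ∈ lifts f g (W j) γ' := ⟨φ, ⟨hφ, h2⟩, rfl⟩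
    rw [hWlift, Set.mem_singleton_iff] at m1 m2
    exact hne (Subtype.ext (m1.symm.trans m2))
  refine ⟨g '' ((⋂ χ, ↑(Oχ χ)) \ bad), g.isOpenMap _
    ((isOpen_iInter_of_finite fun χ => (Oχ χ).2).sdiff hbad),
    ⟨pt γ', ⟨Set.mem_iInter.2 hOχ, hγbad⟩, by rw [← pt_comp, hγ']⟩, ?_⟩
  rintro _ ⟨v, ⟨hvO, hvbad⟩, rfl⟩
  rw [fibreIntegral_eq f w γ]
  conv_rhs => rw [← pt_geoPt V v, ← pt_comp, fibreIntegral_eq]
  have hval : ∀ χ : geoFib f γ Set.univ, geoSum f w g (W χ) (geoPt V v) = w (pt χ.1) := fun χ => by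
    rw [hcχ χ _ _ (by rw [pt_geoPt]; exact Set.mem_iInter.1 hvO χ), ← hcχ χ _ γ' (hOχ χ), geoSum,
      hWlift, finsum_mem_singleton]
  have hdisj : Pairwise (Function.onFun Disjoint fun χ => lifts f g (W χ) (geoPt V v)) := by
    intro i j hne
    refine Set.disjoint_left.2 ?_
    rintro _ ⟨φ, ⟨hφ, h1⟩, rfl⟩ ⟨φ', ⟨hφ', h2⟩, he⟩
    obtain rfl : φ' = φ := pullback.hom_ext he (hφ'.trans hφ.symm)
    exact hvbad (Set.mem_iUnion.2 ⟨⟨⟨i, j⟩, hne⟩, pt φ', ⟨h1, h2⟩, by rw [← pt_comp, hφ', pt_geoPt]⟩)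
  have hsub : (⋃ χ, lifts f g (W χ) (geoPt V v)) ⊆ geoFib f (geoPt V v ≫ g) Set.univ := by
    simp only [Set.iUnion_subset_iff]
    exact fun χ χ' h => ⟨(mem_lifts.1 h).1, trivial⟩
  have hfinA : (geoFib f (geoPt V v ≫ g) Set.univ).Finite :=
    finite_geoFib _ _ _ ((hfin _).inter_of_left _)
  rw [← finsum_set_coe_eq_finsum_mem (geoFib f γ Set.univ), ← finsum_congr hval]
  simp only [geoSum]
  rw [← finsum_mem_iUnion hdisj fun χ => finite_lifts_of_mem (hWfin χ) _,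
    finsum_mem_eq_finite_toFinset_sum _ (hfinA.subset hsub),
    finsum_mem_eq_finite_toFinset_sum _ hfinA]
  exact Finset.sum_le_sum_of_subset_of_nonneg (Set.Finite.toFinset_subset_toFinset.2 hsub)
    fun i _ _ => (hpos _).le

theorem lowerSemicontinuous_fibreIntegral {X Y : Scheme.{u}} {f : X ⟶ Y} [LocallyQuasiFinite f]
    [LocallyOfFiniteType f] [IsSeparated f] (hfin : ∀ y : Y, (f ⁻¹' {y}).Finite) {w : X → ℤ}
    (hw : MoreMor.IsWeighting f w) (hpos : ∀ x, 0 < w x) :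
    LowerSemicontinuous (MoreMor.fibreIntegral f w) := by
  intro y a ha
  obtain ⟨O, hO, hyO, h⟩ := exists_open_le_fibreIntegral hfin hw hpos y
  exact Filter.mem_of_superset (hO.mem_nhds hyO) fun y' hy' => ha.trans_le (h y' hy')

end Groth.Agent.Weighting
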