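import Mathlib

/-!
# Algebra for constructibility: radicial spreading out and bounds on geometric points
-/

set_option autoImplicit false
set_option linter.unusedSectionVars false
set_option linter.style.haveILetI false

universe u

open Polynomial

namespace Groth.Agent.Weighting

variable {B A : Type u} [CommRing B] [CommRing A] [Algebra B A]

/-- An element lying in every prime over `P` has a power in `P A` up to a factor outside `P`. -/
theorem exists_mul_pow_mem_map (P : Ideal B) [P.IsPrime] (z : A)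
    (h : ∀ Q : Ideal A, Q.IsPrime → Q.comap (algebraMap B A) = P → z ∈ Q) :
    ∃ (s : B) (N : ℕ), s ∉ P ∧ algebraMap B A s * z ^ N ∈ P.map (algebraMap B A) := by
  by_contra hc
  push Not at hc
  let M : Submonoid A := P.primeCompl.map (algebraMap B A) ⊔ Submonoid.powers z
  have hdisj : Disjoint (P.map (algebraMap B A) : Set A) (M : Set A) := by
    refine Set.disjoint_right.2 fun a ha => ?_
    obtain ⟨_, ⟨s, hs, rfl⟩, _, ⟨N, rfl⟩, rfl⟩ := Submonoid.mem_sup.1 ha
    exact hc s N hs
  obtain ⟨Q, hQ, hPQ, hQM⟩ := Ideal.exists_le_prime_disjoint (P.map (algebraMap B A)) M hdisj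
  have hQP : Q.comap (algebraMap B A) = P := by
    refine le_antisymm (fun s hs => ?_) (Ideal.map_le_iff_le_comap.1 hPQ)
    by_contra hsP
    exact Set.disjoint_left.1 hQM hs (Submonoid.mem_sup_left ⟨s, hsP, rfl⟩)
  exact Set.disjoint_left.1 hQM (h Q hQ hQP) (Submonoid.mem_sup_right (Submonoid.mem_powers z))

theorem exists_fg_le_of_mem_map (P : Ideal B) (z : A) (hz : z ∈ P.map (algebraMap B A)) :
    ∃ J : Ideal B, J.FG ∧ J ≤ P ∧ z ∈ J.map (algebraMap B A) := by
  obtain ⟨T, hT, hzT⟩ := Submodule.mem_span_finite_of_mem_span hz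
  choose g hgP hg using fun a : T => hT a.2
  refine ⟨Ideal.span (Set.range g), Submodule.fg_span (Set.finite_range g),
    Ideal.span_le.2 (Set.range_subset_iff.2 hgP), ?_⟩
  refine Submodule.span_le.2 (fun a ha => ?_) hzT
  have := Ideal.mem_map_of_mem (algebraMap B A) (Ideal.subset_span (s := Set.range g) ⟨⟨a, ha⟩, rfl⟩)
  rwa [hg] at this

/-- Frobenius is injective on a domain in which the exponential characteristic vanishes. -/
theorem eq_of_pow_pow_eq {Ω : Type*} [Field Ω] (e n : ℕ) (he : e = 1 ∨ e.Prime ∧ (e : Ω) = 0)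
    {x y : Ω} (h : x ^ e ^ n = y ^ e ^ n) : x = y := by
  rcases he with rfl | ⟨hp, h0⟩
  · simpa using h
  · haveI : Fact e.Prime := ⟨hp⟩
    haveI : CharP Ω e := (CharP.charP_iff_prime_eq_zero hp).2 h0
    haveI : ExpChar Ω e := ExpChar.prime hp
    exact iterateFrobenius_inj Ω e n (by simpa [iterateFrobenius_def] using h)

set_option synthInstance.maxHeartbeats 200000 in
/-- One element of a finite algebra with a single geometric point over `P` is determined by the base
on a constructible neighbourhood of `P`. -/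
theorem exists_elem_determined [Module.Finite B A] (P : Ideal B) [P.IsPrime]
    [Subsingleton (A →ₐ[B] AlgebraicClosure P.ResidueField)] (a : A) :
    ∃ (J : Ideal B) (t : B), J.FG ∧ J ≤ P ∧ t ∉ P ∧ ∀ (Ω : Type u) [Field Ω] [Algebra B Ω],
      J ≤ RingHom.ker (algebraMap B Ω) → algebraMap B Ω t ≠ 0 →
        ∀ b₁ b₂ : A →ₐ[B] Ω, b₁ a = b₂ a := by
  let K := P.ResidueField
  let Ω₀ := AlgebraicClosure K
  have hQ : ∀ Q : Ideal A, Q.IsPrime → Q.comap (algebraMap B A) = P →
      ∃ b : A →ₐ[B] Ω₀, RingHom.ker b = Q := by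
    intro Q _ hQP
    haveI : Q.LiesOver P := ⟨hQP.symm⟩
    letI := Localization.AtPrime.algebraOfLiesOver P Q
    haveI : Module.Finite K Q.ResidueField := inferInstance
    let j : Q.ResidueField →ₐ[K] Ω₀ := IsAlgClosed.lift
    refine ⟨(j.restrictScalars B).comp (IsScalarTower.toAlgHom B A Q.ResidueField), ?_⟩
    ext x
    simp [RingHom.mem_ker]
  obtain ⟨e, he, x, t, n, ht, hz⟩ : ∃ (e : ℕ) (_ : e = 1 ∨ e.Prime ∧ (e : B) ∈ P) (x t : B) (n : ℕ),
      t ∉ P ∧ ∀ Q : Ideal A, Q.IsPrime → Q.comap (algebraMap B A) = P →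
        algebraMap B A t * a ^ e ^ n - algebraMap B A x ∈ Q := by
    by_cases hex : ∃ Q : Ideal A, Q.IsPrime ∧ Q.comap (algebraMap B A) = P
    · obtain ⟨Q, _, hQP⟩ := hex
      have huniq : ∀ Q' : Ideal A, Q'.IsPrime → Q'.comap (algebraMap B A) = P → Q' = Q := by
        intro Q' hQ' hQ'P
        obtain ⟨b, rfl⟩ := hQ Q inferInstance hQP
        obtain ⟨b', rfl⟩ := hQ Q' hQ' hQ'P
        rw [Subsingleton.elim b' b]
      haveI : Q.LiesOver P := ⟨hQP.symm⟩
      letI := Localization.AtPrime.algebraOfLiesOver P Q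
      let L := Q.ResidueField
      haveI : Module.Finite K L := inferInstance
      haveI : IsPurelyInseparable K L := by
        refine isPurelyInseparable_of_finSepDegree_eq_one ?_
        rw [Field.finSepDegree_eq_of_isAlgClosed _ _ Ω₀]
        haveI : Subsingleton (L →ₐ[K] Ω₀) := ⟨fun j j' => by
          apply AlgHom.coe_ringHom_injective
          refine Ideal.ResidueField.ringHom_ext ?_
          have := Subsingleton.elim ((j.restrictScalars B).comp (IsScalarTower.toAlgHom B A L))
            ((j'.restrictScalars B).comp (IsScalarTower.toAlgHom B A L))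
          exact congrArg AlgHom.toRingHom this⟩
        haveI : Nonempty (L →ₐ[K] Ω₀) := ⟨IsAlgClosed.lift⟩
        exact Nat.card_of_subsingleton (Classical.arbitrary _)
      obtain ⟨e, he⟩ := ExpChar.exists K
      haveI := he
      obtain ⟨n, k, hk⟩ := IsPurelyInseparable.pow_mem K e (algebraMap A L a)
      obtain ⟨xq, yq, hyq, hxy⟩ := IsFractionRing.div_surjective (A := B ⧸ P) k
      obtain ⟨x, rfl⟩ := Ideal.Quotient.mk_surjective xq
      obtain ⟨t, rfl⟩ := Ideal.Quotient.mk_surjective yq
      have ht : t ∉ P := fun h => nonZeroDivisors.ne_zero hyq (Ideal.Quotient.eq_zero_iff_mem.2 h)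
      refine ⟨e, ?_, x, t, n, ht, fun Q' hQ' hQ'P => ?_⟩
      · rcases he with _ | ⟨hp⟩
        · exact Or.inl rfl
        · refine Or.inr ⟨hp, ?_⟩
          rw [← Ideal.algebraMap_residueField_eq_zero (I := P), map_natCast]
          exact CharP.cast_eq_zero _ _
      · rw [huniq Q' hQ' hQ'P, ← Ideal.algebraMap_residueField_eq_zero (I := Q), map_sub, map_mul,
          map_pow, ← IsScalarTower.algebraMap_apply B A L, ← IsScalarTower.algebraMap_apply B A L,
          IsScalarTower.algebraMap_apply B K L, IsScalarTower.algebraMap_apply B K L x, ← hk, ← hxy,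
          ← map_mul, Ideal.algebraMap_quotient_residueField_mk, Ideal.algebraMap_quotient_residueField_mk,
          mul_div_cancel₀ _ (fun h => ht (Ideal.algebraMap_residueField_eq_zero.1 h)), sub_self]
    · exact ⟨1, Or.inl rfl, 0, 1, 0, P.ne_top_iff_one.1 ‹P.IsPrime›.ne_top,
        fun Q h1 h2 => absurd ⟨Q, h1, h2⟩ hex⟩
  obtain ⟨s, N, hs, hmem⟩ := exists_mul_pow_mem_map P _ hz
  obtain ⟨J, hJfg, hJP, hJ⟩ := exists_fg_le_of_mem_map P _ hmem
  classical
  refine ⟨J ⊔ Ideal.span (if e = 1 then ∅ else {(e : B)}), t * s, Submodule.FG.sup hJfg (Submodule.fg_span ?_),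
    sup_le hJP (Ideal.span_le.2 ?_), fun h => (‹P.IsPrime›.mem_or_mem h).elim ht hs,
    fun Ω _ _ hker hne b₁ b₂ => ?_⟩
  · split_ifs <;> simp
  · split_ifs with h
    · simp
    · exact Set.singleton_subset_iff.2 (he.resolve_left h).2
  · rw [map_mul, mul_ne_zero_iff] at hne
    have key : ∀ b : A →ₐ[B] Ω, algebraMap B Ω t * b a ^ e ^ n = algebraMap B Ω x := by
      intro b
      have h0 : b (algebraMap B A s * (algebraMap B A t * a ^ e ^ n - algebraMap B A x) ^ N) = 0 := by
        have : J.map (algebraMap B A) ≤ RingHom.ker b := Ideal.map_le_iff_le_comap.2 fun j hj => by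
          simpa using hker (Ideal.mem_sup_left hj)
        exact this hJ
      rw [map_mul, AlgHom.commutes, map_pow, mul_eq_zero] at h0
      have := eq_zero_of_pow_eq_zero (h0.resolve_left hne.2)
      simpa [sub_eq_zero] using this
    refine eq_of_pow_pow_eq e n ?_ (mul_left_cancel₀ hne.1 ((key b₁).trans (key b₂).symm))
    by_cases h : e = 1
    · exact Or.inl h
    · refine Or.inr ⟨(he.resolve_left h).1, ?_⟩
      have := hker (Ideal.mem_sup_right (Ideal.subset_span (by simp [h] : (e : B) ∈ _)))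
      simpa using this

/-- A finite algebra with a single geometric point over `P` has at most one over the points of a
constructible neighbourhood of `P`. -/
theorem exists_radicial_nhd [Module.Finite B A] (P : Ideal B) [P.IsPrime]
    [Subsingleton (A →ₐ[B] AlgebraicClosure P.ResidueField)] :
    ∃ (J : Ideal B) (t : B), J.FG ∧ J ≤ P ∧ t ∉ P ∧ ∀ (Ω : Type u) [Field Ω] [Algebra B Ω],
      J ≤ RingHom.ker (algebraMap B Ω) → algebraMap B Ω t ≠ 0 → Subsingleton (A →ₐ[B] Ω) := by
  obtain ⟨S, hS⟩ := (inferInstance : Algebra.FiniteType B A).out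
  choose J t hJfg hJP ht h using fun a : A => exists_elem_determined P a
  refine ⟨⨆ a ∈ S, J a, ∏ a ∈ S, t a, Submodule.fg_biSup S J fun a _ => hJfg a,
    iSup₂_le fun a _ => hJP a, ?_, fun Ω _ _ hker hne => ⟨fun b₁ b₂ => ?_⟩⟩
  · intro h'
    obtain ⟨a, -, ha⟩ := (Ideal.IsPrime.prod_mem_iff (p := P)).1 h'
    exact ht a ha
  · refine AlgHom.ext_of_adjoin_eq_top hS fun a ha => h a Ω
      ((le_iSup₂ (f := fun a _ => J a) a ha).trans hker) ?_ b₁ b₂
    rw [map_prod, Finset.prod_ne_zero_iff] at hne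
    exact hne a ha

/-- A quasi-finite algebra of finite type has boundedly many geometric points. -/
theorem exists_bound_algHom [Algebra.FiniteType B A] [Algebra.QuasiFinite B A] :
    ∃ m : ℕ, ∀ (Ω : Type u) [Field Ω] [Algebra B Ω] (T : Finset (A →ₐ[B] Ω)), T.card ≤ m := by
  classical
  obtain ⟨S, hS⟩ := (inferInstance : Algebra.FiniteType B A).out
  have hq : ∀ q : PrimeSpectrum A, ∃ r : A, r ∉ q.asIdeal ∧ IsIntegral B r ∧
      ∀ x, ∃ k, IsIntegral B (r ^ k * x) := fun q =>
    Algebra.zariskisMainProperty_iff.1 (Algebra.ZariskisMainProperty.of_finiteType (R := B) q.asIdeal)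
  choose r hr hrint hrk using hq
  obtain ⟨G, hG⟩ : ∃ G : Finset (PrimeSpectrum A), ∀ q : PrimeSpectrum A, ∃ i ∈ G, r i ∉ q.asIdeal := by
    obtain ⟨G, hG⟩ := isCompact_univ.elim_finite_subcover
      (fun i : PrimeSpectrum A => (PrimeSpectrum.basicOpen (r i) : Set (PrimeSpectrum A)))
      (fun i => (PrimeSpectrum.basicOpen (r i)).2) fun q _ => Set.mem_iUnion.2 ⟨q, hr q⟩
    refine ⟨G, fun q => ?_⟩
    obtain ⟨i, hi, hiq⟩ : ∃ i ∈ G, q ∈ PrimeSpectrum.basicOpen (r i) := by simpa using hG (Set.mem_univ q)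
    exact ⟨i, hi, hiq⟩
  choose k hk using fun (i : PrimeSpectrum A) (a : A) => hrk i a
  let E : Finset A := (G.image r) ∪ (G ×ˢ S).image (fun p => r p.1 ^ k p.1 p.2 * p.2)
  let C := Algebra.adjoin B (E : Set A)
  have hCfg : (Subalgebra.toSubmodule C).FG := fg_adjoin_of_finite E.finite_toSet fun x hx => by
    simp only [E, Finset.coe_union, Set.mem_union, Finset.mem_coe, Finset.mem_image,
      Finset.mem_product] at hx
    rcases hx with ⟨i, -, rfl⟩ | ⟨⟨i, a⟩, -, rfl⟩
    · exact hrint i
    · exact hk i a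
  obtain ⟨X, hX⟩ := hCfg
  refine ⟨X.card, fun Ω _ _ T => ?_⟩
  have hinj : ∀ b b' : A →ₐ[B] Ω, (∀ c ∈ C, b c = b' c) → b = b' := by
    intro b b' hcc
    refine AlgHom.ext_of_adjoin_eq_top hS fun a ha => ?_
    obtain ⟨i, hi, hbi⟩ := hG ⟨RingHom.ker b.toRingHom, RingHom.ker_isPrime _⟩
    have h1 := hcc _ (Algebra.subset_adjoin (s := (E : Set A))
      (Finset.mem_coe.2 (Finset.mem_union_left _ (Finset.mem_image_of_mem r hi))))
    have h2 := hcc _ (Algebra.subset_adjoin (s := (E : Set A))
      (Finset.mem_coe.2 (Finset.mem_union_right _ (Finset.mem_image.2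
        ⟨(i, a), Finset.mem_product.2 ⟨hi, ha⟩, rfl⟩))))
    simp only [map_mul, map_pow, ← h1] at h2
    exact mul_left_cancel₀ (pow_ne_zero _ fun h => hbi (RingHom.mem_ker.2 h)) h2
  let v : T → (X → Ω) := fun b x => b.1 x
  have hv : LinearIndependent Ω v := by
    have hli : LinearIndependent Ω (fun b : T => ⇑((b.1.toRingHom.comp C.val.toRingHom).toMonoidHom)) :=
      (linearIndependent_monoidHom C Ω).comp
        (fun b : T => (b.1.toRingHom.comp C.val.toRingHom).toMonoidHom) fun b b' hbb' =>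
          Subtype.ext (hinj _ _ fun c hc => DFunLike.congr_fun hbb' ⟨c, hc⟩)
    rw [Fintype.linearIndependent_iff] at hli ⊢
    intro g hg
    refine hli g ?_
    funext c
    have hall : ∀ c ∈ Submodule.span B (X : Set A), ∑ b : T, g b * b.1 c = 0 := by
      intro c hc
      induction hc using Submodule.span_induction with
      | mem x hx =>
        have := congrFun hg ⟨x, hx⟩
        simpa [v, Finset.sum_apply] using this
      | zero => simp
      | add x y _ _ hx hy => simp only [map_add, mul_add, Finset.sum_add_distrib, hx, hy, add_zero]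
      | smul r x _ hx => simp only [Algebra.smul_def, map_mul, AlgHom.commutes, mul_left_comm _ (algebraMap B Ω r), ← Finset.mul_sum, hx, mul_zero]
    have := hall c (hX.symm ▸ c.2)
    simpa [Finset.sum_apply] using this
  have := hv.fintype_card_le_finrank
  simpa [Module.finrank_fintype_fun_eq_card] using this

end Groth.Agent.Weighting
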