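import Groth.Agent.Weighting.Basic
import Groth.Agent.Weighting.ConstrAlg
import Groth.Agent.SpecSp.Constr

/-!
# Constructibility of the level sets of a weighting
-/

set_option autoImplicit false
set_option linter.unusedSectionVars false
set_option linter.style.haveILetI false

universe u

open CategoryTheory CategoryTheory.Limits AlgebraicGeometry Topology
open scoped Set.Notation

namespace Groth.Agent.Weighting

theorem subsingleton_geoFib_Spec {R S : CommRingCat.{u}} (φ : R ⟶ S) {Ω : Type u} [Field Ω]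
    (a : R →+* Ω) :
    (geoFib (Spec.map φ) (Spec.map (CommRingCat.ofHom a)) Set.univ).Subsingleton ↔
      (letI := φ.hom.toAlgebra; letI := a.toAlgebra; Subsingleton (S →ₐ[R] Ω)) := by
  letI := φ.hom.toAlgebra
  letI := a.toAlgebra
  constructor
  · intro h
    refine ⟨fun b b' => ?_⟩
    have hb : ∀ c : S →ₐ[R] Ω, Spec.map (CommRingCat.ofHom c.toRingHom) ∈
        geoFib (Spec.map φ) (Spec.map (CommRingCat.ofHom a)) Set.univ := fun c => ⟨by
      rw [← Spec.map_comp]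
      congr 1
      ext r
      exact c.commutes r, trivial⟩
    have := Spec.map_injective (h (hb b) (hb b'))
    exact AlgHom.coe_ringHom_injective (congrArg CommRingCat.Hom.hom this)
  · intro h ψ hψ ψ' hψ'
    obtain ⟨c, rfl⟩ := Spec.map_surjective ψ
    obtain ⟨c', rfl⟩ := Spec.map_surjective ψ'
    have key : ∀ c : S ⟶ CommRingCat.of Ω, Spec.map c ≫ Spec.map φ = Spec.map (CommRingCat.ofHom a) →
        ∀ r, c.hom (φ.hom r) = a r := fun c hc r => by
      rw [← Spec.map_comp, Spec.map_inj] at hc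
      exact DFunLike.congr_fun (congrArg CommRingCat.Hom.hom hc) r
    have := @Subsingleton.elim (S →ₐ[R] Ω) h ⟨c.hom, key c hψ.1⟩ ⟨c'.hom, key c' hψ'.1⟩
    exact congrArg Spec.map (CommRingCat.hom_ext (congrArg AlgHom.toRingHom this))

theorem subsingleton_geoFib_isoSpec {P A : Scheme.{u}} [IsAffine P] [IsAffine A] (π : P ⟶ A)
    {Ω : Type u} [Field Ω] (δ : Spec (CommRingCat.of Ω) ⟶ A) :
    (geoFib π δ Set.univ).Subsingleton ↔
      (geoFib (Spec.map π.appTop) (δ ≫ A.isoSpec.hom) Set.univ).Subsingleton := by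
  have hn := Scheme.isoSpec_hom_naturality π
  constructor
  · intro h ψ hψ ψ' hψ'
    have key : ∀ ψ ∈ geoFib (Spec.map π.appTop) (δ ≫ A.isoSpec.hom) Set.univ,
        ψ ≫ P.isoSpec.inv ∈ geoFib π δ Set.univ := fun ψ hψ => ⟨by
      rw [← cancel_mono A.isoSpec.hom, Category.assoc, Category.assoc, ← hn, P.isoSpec.inv_hom_id_assoc]
      exact hψ.1, trivial⟩
    exact (cancel_mono P.isoSpec.inv).1 (h (key ψ hψ) (key ψ' hψ'))
  · intro h ψ hψ ψ' hψ'
    have key : ∀ ψ ∈ geoFib π δ Set.univ,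
        ψ ≫ P.isoSpec.hom ∈ geoFib (Spec.map π.appTop) (δ ≫ A.isoSpec.hom) Set.univ := fun ψ hψ => ⟨by
      rw [Category.assoc, hn, reassoc_of% hψ.1], trivial⟩
    exact (cancel_mono P.isoSpec.hom).1 (h (key ψ hψ) (key ψ' hψ'))

set_option synthInstance.maxHeartbeats 200000 in
/-- A finite morphism to an affine scheme with a single geometric point over `γ` has at most one over
a constructible neighbourhood. -/
theorem exists_radicial_nhd_scheme {P A : Scheme.{u}} [IsAffine A] (π : P ⟶ A) [IsFinite π]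
    {Ω : Type u} [Field Ω] [IsAlgClosed Ω] (γ : Spec (CommRingCat.of Ω) ⟶ A)
    (h : (geoFib π γ Set.univ).Subsingleton) :
    ∃ C : Set A, IsConstructible C ∧ pt γ ∈ C ∧ ∀ (Ω' : Type u) [Field Ω'] [IsAlgClosed Ω']
      (δ : Spec (CommRingCat.of Ω') ⟶ A), pt δ ∈ C → (geoFib π δ Set.univ).Subsingleton := by
  haveI : IsAffine P := isAffine_of_isAffineHom π
  have hfin : π.appTop.hom.Finite := ((HasAffineProperty.iff_of_isAffine (P := @IsFinite)).1 ‹_›).2
  obtain ⟨a, ha⟩ : ∃ a : Γ(A, ⊤) ⟶ CommRingCat.of Ω, Spec.map a = γ ≫ A.isoSpec.hom :=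
    Spec.map_surjective _
  rw [subsingleton_geoFib_isoSpec, ← ha] at h
  have h' := (subsingleton_geoFib_Spec π.appTop a.hom).1 h
  letI := π.appTop.hom.toAlgebra
  letI := a.hom.toAlgebra
  haveI : Module.Finite Γ(A, ⊤) Γ(P, ⊤) := hfin
  let p : Ideal Γ(A, ⊤) := RingHom.ker a.hom
  haveI : p.IsPrime := RingHom.ker_isPrime _
  letI : Algebra p.ResidueField Ω := (Ideal.ResidueField.lift p a.hom le_rfl
    (fun x hx => isUnit_iff_ne_zero.2 hx)).toAlgebra
  haveI : IsScalarTower Γ(A, ⊤) p.ResidueField Ω := .of_algebraMap_eq fun r =>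
    (Ideal.ResidueField.lift_algebraMap p _ _ _ r).symm
  let j : AlgebraicClosure p.ResidueField →ₐ[p.ResidueField] Ω := IsAlgClosed.lift
  haveI : Subsingleton (Γ(P, ⊤) →ₐ[Γ(A, ⊤)] AlgebraicClosure p.ResidueField) := ⟨fun b b' => by
    have := @Subsingleton.elim _ h' ((j.restrictScalars Γ(A, ⊤)).comp b)
      ((j.restrictScalars Γ(A, ⊤)).comp b')
    exact AlgHom.ext fun x => j.toRingHom.injective (DFunLike.congr_fun this x)⟩
  obtain ⟨J, t, hJfg, hJp, htp, hrad⟩ := exists_radicial_nhd (A := Γ(P, ⊤)) p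
  let C₀ : Set (Spec Γ(A, ⊤)) := PrimeSpectrum.zeroLocus (J : Set Γ(A, ⊤)) \ PrimeSpectrum.zeroLocus {t}
  have hpt : ∀ {K : Type u} [Field K] (c : Γ(A, ⊤) ⟶ CommRingCat.of K),
      pt (Spec.map c) ∈ C₀ ↔ J ≤ RingHom.ker c.hom ∧ c.hom t ≠ 0 := by
    intro K _ c
    change ((J : Set Γ(A, ⊤)) ⊆ (Ideal.comap c.hom (IsLocalRing.maximalIdeal K) : Set Γ(A, ⊤)) ∧
      ¬ ({t} : Set Γ(A, ⊤)) ⊆ (Ideal.comap c.hom (IsLocalRing.maximalIdeal K) : Set Γ(A, ⊤))) ↔ _
    simp [IsLocalRing.maximalIdeal_eq_bot, RingHom.ker_eq_comap_bot, Set.subset_def, SetLike.le_def]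
  have hC₀ : IsConstructible C₀ := by
    obtain ⟨S, hS⟩ := hJfg
    have : C₀ = (PrimeSpectrum.ConstructibleSetData.toSet
        {(⟨t, S.card, fun i => (S.equivFin.symm i : Γ(A, ⊤))⟩ : PrimeSpectrum.BasicConstructibleSetData Γ(A, ⊤))}) := by
      simp only [PrimeSpectrum.ConstructibleSetData.toSet, Finset.mem_singleton, Set.iUnion_iUnion_eq_left,
        PrimeSpectrum.BasicConstructibleSetData.toSet, C₀]
      rw [← hS, PrimeSpectrum.zeroLocus_span]
      congr 2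
      ext x
      exact ⟨fun hx => ⟨S.equivFin ⟨x, hx⟩, by simp⟩, fun ⟨i, hi⟩ => hi ▸ (S.equivFin.symm i).2⟩
    rw [this]
    exact PrimeSpectrum.ConstructibleSetData.isConstructible_toSet _
  refine ⟨A.isoSpec.hom ⁻¹' C₀, hC₀.preimage_of_isOpenEmbedding A.isoSpec.hom.isOpenEmbedding, ?_,
    fun Ω' _ _ δ hδ => ?_⟩
  · rw [Set.mem_preimage, ← pt_comp, ← ha, hpt]
    exact ⟨hJp, htp⟩
  · obtain ⟨c, hc⟩ : ∃ c : Γ(A, ⊤) ⟶ CommRingCat.of Ω', Spec.map c = δ ≫ A.isoSpec.hom :=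
      Spec.map_surjective _
    rw [Set.mem_preimage, ← pt_comp, ← hc, hpt] at hδ
    rw [subsingleton_geoFib_isoSpec, ← hc]
    refine (subsingleton_geoFib_Spec π.appTop c.hom).2 ?_
    letI := c.hom.toAlgebra
    exact hrad Ω' hδ.1 hδ.2

theorem subsingleton_geoFib_of_lifts {X Y V : Scheme.{u}} {f : X ⟶ Y} {h : V ⟶ Y}
    (W : (pullback f h).Opens) {Ω : Type u} [Field Ω] [IsAlgClosed Ω] (γ : Spec (CommRingCat.of Ω) ⟶ V) :
    (geoFib (W.ι ≫ pullback.snd f h) γ Set.univ).Subsingleton ↔ (lifts f h W γ).Subsingleton := by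
  constructor
  · intro hs
    rw [lifts, ← geoFib_image_opens]
    exact (hs.image _).image _
  · intro hs a ha b hb
    have key : ∀ a ∈ geoFib (W.ι ≫ pullback.snd f h) γ Set.univ,
        a ≫ W.ι ∈ geoFib (pullback.snd f h) γ W := fun a ha =>
      (geoFib_image_opens (pullback.snd f h) W γ).le ⟨a, ha, rfl⟩
    exact (cancel_mono W.ι).1 (injOn_fst (key a ha) (key b hb)
      (hs ⟨_, key a ha, rfl⟩ ⟨_, key b hb, rfl⟩))

/-- Near every point of an affine étale `V`, the weighting takes finitely many values on a finite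
piece, with constructible level sets. -/
theorem exists_constr_nhd {X Y : Scheme.{u}} {f : X ⟶ Y} [LocallyQuasiFinite f] [LocallyOfFiniteType f]
    {w : X → ℤ} (hw : MoreMor.IsWeighting f w) {V : Scheme.{u}} [IsAffine V] (g : V ⟶ Y) [Etale g]
    (W : (pullback f g).Opens) [IsFinite (W.ι ≫ pullback.snd f g)] (v : V) :
    ∃ (C : Set V) (F : Finset ℤ), IsConstructible C ∧ v ∈ C ∧
      (∀ p : W, pullback.snd f g (W.ι p) ∈ C → w (pullback.fst f g (W.ι p)) ∈ F) ∧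
      ∀ n, IsConstructible {p : W | pullback.snd f g (W.ι p) ∈ C ∧ w (pullback.fst f g (W.ι p)) = n} := by
  classical
  let Ω := AlgebraicClosure (V.residueField v)
  let γ : Spec (CommRingCat.of Ω) ⟶ V := geoPt V v
  obtain ⟨V'', k, _, γ'', V₁, g₁, _, l, P, O, hγk, hl, hPfin, hPlift, hγO, hdec⟩ := exists_decomp f g W γ
  haveI : Finite (lifts f g W γ) := finite_lifts W γ
  haveI := Fintype.ofFinite (lifts f g W γ)
  have hconst : ∀ χ, SumConst f w g₁ (P χ) (γ'' ≫ l) := fun χ => by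
    haveI := hPfin χ; exact sumConst_of_isWeighting hw g₁ (P χ) _
  choose O₁ c hO₁ hc using hconst
  let O' : V''.Opens := O ⊓ ⟨⋂ χ, l ⁻¹ᵁ O₁ χ, isOpen_iInter_of_finite fun χ => (l ⁻¹ᵁ O₁ χ).2⟩
  have hγO' : pt γ'' ∈ O' :=
    ⟨hγO, Set.mem_iInter.2 fun χ => show l (pt γ'') ∈ O₁ χ from pt_comp γ'' l ▸ hO₁ χ⟩
  obtain ⟨A, hA, hγA, hAO⟩ : ∃ A : V''.Opens, IsAffineOpen A ∧ pt γ'' ∈ A ∧ A ≤ O' := by
    obtain ⟨_, ⟨A, hA, rfl⟩, hγA, hAO⟩ := V''.isBasis_affineOpens.exists_subset_of_mem_open hγO' O'.2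
    exact ⟨A, hA, hγA, hAO⟩
  haveI : IsAffine (A : Scheme.{u}) := hA
  let γA : Spec (CommRingCat.of Ω) ⟶ A := IsOpenImmersion.lift A.ι γ'' (by
    rw [range_eq_pt, Set.singleton_subset_iff, Scheme.Opens.range_ι]; exact hγA)
  have hγA' : γA ≫ A.ι = γ'' := IsOpenImmersion.lift_fac _ _ _
  let k' : (A : Scheme.{u}) ⟶ V := A.ι ≫ k
  haveI : QuasiCompact k' := (quasiCompact_iff_compactSpace k').2 inferInstance
  let P' := fun χ => bc f (A.ι ≫ l) rfl ⁻¹ᵁ P χ
  haveI : ∀ χ, IsFinite ((P' χ).ι ≫ pullback.snd f ((A.ι ≫ l) ≫ g₁)) := fun χ => by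
    haveI := hPfin χ; exact isFinite_bc f _ rfl (P χ)
  have hsub : ∀ χ, (geoFib ((P' χ).ι ≫ pullback.snd f ((A.ι ≫ l) ≫ g₁)) γA Set.univ).Subsingleton :=
    fun χ => by
      rw [subsingleton_geoFib_of_lifts, lifts_bc, ← Category.assoc, hγA', hPlift]
      exact Set.subsingleton_singleton
  choose Cχ hCχ hγCχ hradχ using fun χ => exists_radicial_nhd_scheme _ γA (hsub χ)
  let CA : Set A := ⋂ χ, Cχ χ
  have hCA : IsConstructible CA := by
    have : CA = (⋃ χ, (Cχ χ)ᶜ)ᶜ := by simp [CA]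
    rw [this]
    exact (IsConstructible.iUnion fun χ => (hCχ χ).compl).compl
  let q : (W : Scheme.{u}) ⟶ V := W.ι ≫ pullback.snd f g
  haveI : IsAffine (W : Scheme.{u}) := isAffine_of_isAffineHom q
  haveI : IsAffineHom (pullback.snd q k') := inferInstance
  haveI : IsAffine (pullback q k') := isAffine_of_isAffineHom (pullback.snd q k')
  let m := pullback.fst q k'
  let j : pullback q k' ⟶ pullback f g₁ :=
    pullback.lift (m ≫ W.ι ≫ pullback.fst f g) (pullback.snd q k' ≫ A.ι ≫ l) (by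
      have e2 : pullback.snd f g ≫ g = pullback.fst f g ≫ f := pullback.condition.symm
      calc (m ≫ W.ι ≫ pullback.fst f g) ≫ f = m ≫ W.ι ≫ pullback.snd f g ≫ g := by
            rw [Category.assoc, Category.assoc, e2]
        _ = (m ≫ q) ≫ g := by simp [q]
        _ = (pullback.snd q k' ≫ k') ≫ g := by rw [pullback.condition]
        _ = (pullback.snd q k' ≫ A.ι ≫ l) ≫ g₁ := by simp [k', hl])
  -- for every point, its piece
  have key : ∀ u : ↑(pullback q k'),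
      (∃ χ, j u ∈ P χ) ∧ (∀ χ χ', j u ∈ P χ → j u ∈ P χ' → χ = χ') ∧
      (pullback.snd q k' u ∈ CA → ∀ χ, j u ∈ P χ → w (pullback.fst f g (W.ι (m u))) = c χ) := by
    intro u
    let α := geoPt (pullback q k') u
    let δ := α ≫ pullback.snd q k' ≫ A.ι
    let χ' := α ≫ m ≫ W.ι ≫ pullback.fst f g
    have hδO : pt δ ∈ O' := by
      rw [pt_comp, pt_geoPt, Scheme.Hom.comp_apply]
      exact hAO (pullback.snd q k' u).2
    obtain ⟨heq, hdisj⟩ := hdec _ δ hδO.1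
    have hχ' : χ' ∈ lifts f g W (δ ≫ k) := by
      refine ⟨α ≫ m ≫ W.ι, ⟨?_, ?_⟩, by simp [χ']⟩
      · simp only [δ, Category.assoc]
        exact congrArg (α ≫ ·) pullback.condition
      · rw [pt_comp, Scheme.Hom.comp_apply]; exact (m (pt α)).2
    have hmem : ∀ χ, χ' ∈ lifts f g₁ (P χ) (δ ≫ l) ↔ j u ∈ P χ := by
      intro χ
      have hj : ∀ H, pullback.lift χ' (δ ≫ l) H = α ≫ j := fun H => by
        refine pullback.hom_ext ?_ ?_
        · rw [pullback.lift_fst, Category.assoc]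
          exact (congrArg (α ≫ ·) (pullback.lift_fst _ _ _)).symm
        · rw [pullback.lift_snd, Category.assoc]
          exact Eq.trans (by simp [δ]) (congrArg (α ≫ ·) (pullback.lift_snd _ _ _)).symm
      constructor
      · intro hx
        obtain ⟨H, hx⟩ := mem_lifts.1 hx
        rwa [hj, pt_comp, pt_geoPt] at hx
      · intro hx
        refine mem_lifts.2 ⟨?_, ?_⟩
        · rw [(mem_lifts.1 hχ').1]; simp only [δ, Category.assoc, hl]
        · rwa [hj, pt_comp, pt_geoPt]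
    refine ⟨?_, fun χ₁ χ₂ h1 h2 => ?_, fun hu χ hx => ?_⟩
    · obtain ⟨χ, hχ⟩ := Set.mem_iUnion.1 (heq ▸ hχ')
      exact ⟨χ, (hmem χ).1 hχ⟩
    · by_contra hne
      exact Set.disjoint_left.1 (hdisj hne) ((hmem χ₁).2 h1) ((hmem χ₂).2 h2)
    · have hs := hradχ χ _ (α ≫ pullback.snd q k') (by
        rw [pt_comp, pt_geoPt]; exact Set.mem_iInter.1 hu χ)
      rw [subsingleton_geoFib_of_lifts, lifts_bc] at hs
      have e : (α ≫ pullback.snd q k') ≫ A.ι ≫ l = δ ≫ l := by simp [δ]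
      rw [e] at hs
      have hsum := hc χ _ (δ ≫ l) (by
        rw [pt_comp]; exact Set.mem_iInter.1 hδO.2 χ)
      rw [geoSum, hs.eq_singleton_of_mem ((hmem χ).2 hx), finsum_mem_singleton] at hsum
      rw [← hsum]
      simp [χ', pt_comp, pt_geoPt, α]
  let T := fun χ => (j ⁻¹ᵁ P χ : Set ↑(pullback q k'))
  have hT : ∀ χ, IsConstructible (T χ) := fun χ => by
    have hcl : IsClosed (T χ) := by
      have : (T χ)ᶜ = ⋃ χ' : {χ' // χ' ≠ χ}, T χ' := by
        ext u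
        simp only [Set.mem_compl_iff, Set.mem_iUnion]
        refine ⟨fun hu => ?_, fun ⟨χ', hu'⟩ hu => χ'.2 ((key u).2.1 _ _ hu' hu)⟩
        obtain ⟨χ', hχ'⟩ := (key u).1
        exact ⟨⟨χ', fun h => hu (h ▸ hχ')⟩, hχ'⟩
      rw [← isOpen_compl_iff, this]
      exact isOpen_iUnion fun χ' => (j ⁻¹ᵁ P χ'.1).2
    exact hcl.isCompact.isConstructible (j ⁻¹ᵁ P χ).2
  haveI : QuasiCompact m := inferInstance
  haveI : LocallyOfFinitePresentation m := inferInstance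
  refine ⟨k' '' CA, Finset.univ.image c, k'.isConstructible_image hCA,
    ⟨pt γA, Set.mem_iInter.2 hγCχ, ?_⟩, ?_, fun n => ?_⟩
  · rw [← pt_comp, ← Category.assoc, hγA', hγk, pt_geoPt]
  · rintro p ⟨a, ha, hap⟩
    obtain ⟨u, hu1, hu2⟩ := Scheme.Pullback.exists_preimage_pullback (f := q) (g := k') p a hap.symm
    obtain ⟨χ, hχ⟩ := (key u).1
    have := (key u).2.2 (hu2.symm ▸ ha) χ hχ
    rw [show m u = p from hu1] at this
    exact Finset.mem_image.2 ⟨χ, Finset.mem_univ _, this.symm⟩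
  · have : {p : W | pullback.snd f g (W.ι p) ∈ k' '' CA ∧ w (pullback.fst f g (W.ι p)) = n} =
        m '' ((pullback.snd q k' ⁻¹' CA) ∩ ⋃ χ : {χ // c χ = n}, T χ) := by
      ext p
      constructor
      · rintro ⟨⟨a, ha, hap⟩, hn⟩
        obtain ⟨u, hu1, hu2⟩ := Scheme.Pullback.exists_preimage_pullback (f := q) (g := k') p a hap.symm
        obtain ⟨χ, hχ⟩ := (key u).1
        have := (key u).2.2 (hu2.symm ▸ ha) χ hχ
        rw [show m u = p from hu1] at this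
        exact ⟨u, ⟨show pullback.snd q k' u ∈ CA by rw [hu2]; exact ha, Set.mem_iUnion.2 ⟨⟨χ, this.symm.trans hn⟩, hχ⟩⟩, hu1⟩
      · rintro ⟨u, ⟨hu, hu'⟩, rfl⟩
        obtain ⟨⟨χ, hcn⟩, hχ⟩ := Set.mem_iUnion.1 hu'
        refine ⟨⟨_, hu, ?_⟩, ((key u).2.2 hu χ hχ).trans hcn⟩
        have := congrArg (fun φ => φ u) (pullback.condition (f := q) (g := k'))
        simpa [q, m] using this.symm
    rw [this]
    exact m.isConstructible_image (((pullback.snd q k').isConstructible_preimage hCA).inter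
      (IsConstructible.iUnion fun χ => hT χ.1))

/-- On a finite piece over an affine étale neighbourhood: finitely many values, constructible levels. -/
theorem exists_values {X Y : Scheme.{u}} {f : X ⟶ Y} [LocallyQuasiFinite f] [LocallyOfFiniteType f]
    {w : X → ℤ} (hw : MoreMor.IsWeighting f w) {V : Scheme.{u}} [IsAffine V] (g : V ⟶ Y) [Etale g]
    (W : (pullback f g).Opens) [IsFinite (W.ι ≫ pullback.snd f g)] :
    ∃ F : Finset ℤ, (∀ p : W, w (pullback.fst f g (W.ι p)) ∈ F) ∧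
      ∀ n, IsConstructible {p : W | w (pullback.fst f g (W.ι p)) = n} := by
  classical
  choose C F hC hv hF hlev using fun v => exists_constr_nhd hw g W v
  haveI : SpectralSpace V := ⟨⟩
  obtain ⟨t, ht⟩ := @IsCompact.elim_finite_subcover V (constructibleTopology V) Set.univ _
    (SpecSp.isCompact_cons (@isClosed_univ V (constructibleTopology V))) C
    (fun v => (SpecSp.isClopen_cons_of_isConstructible (hC v)).2)
    (fun v _ => Set.mem_iUnion.2 ⟨v, hv v⟩)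
  have hcov : ∀ p : W, ∃ v ∈ t, pullback.snd f g (W.ι p) ∈ C v := fun p => by
    simpa using ht (Set.mem_univ (pullback.snd f g (W.ι p)))
  refine ⟨t.biUnion F, fun p => ?_, fun n => ?_⟩
  · obtain ⟨v, hvt, hp⟩ := hcov p
    exact Finset.mem_biUnion.2 ⟨v, hvt, hF v p hp⟩
  · have : {p : W | w (pullback.fst f g (W.ι p)) = n} = ⋃ v ∈ (t : Set V),
        {p : W | pullback.snd f g (W.ι p) ∈ C v ∧ w (pullback.fst f g (W.ι p)) = n} := by
      ext p
      simp only [Set.mem_iUnion, Finset.mem_coe]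
      exact ⟨fun hp => (hcov p).elim fun v hv' => ⟨v, hv'.1, hv'.2, hp⟩, fun ⟨_, _, _, h⟩ => h⟩
    rw [this]
    exact IsConstructible.biUnion t.finite_toSet fun v _ => hlev v n

/-- Around every point a weighting takes finitely many values, with constructible level sets. -/
theorem exists_nhd_values {X Y : Scheme.{u}} {f : X ⟶ Y} [LocallyQuasiFinite f] [LocallyOfFiniteType f]
    {w : X → ℤ} (hw : MoreMor.IsWeighting f w) (x : X) :
    ∃ (U : X.Opens) (F : Finset ℤ), x ∈ U ∧ IsAffineOpen U ∧ (∀ z ∈ U, w z ∈ F) ∧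
      ∀ n, IsConstructible ((U : Set X) ↓∩ {z | w z = n}) := by
  obtain ⟨Ω, _, _, χ, rfl⟩ : ∃ (Ω : Type u) (_ : Field Ω) (_ : IsAlgClosed Ω)
      (χ : Spec (CommRingCat.of Ω) ⟶ X), pt χ = x := ⟨_, _, inferInstance, _, pt_geoPt X x⟩
  obtain ⟨V, g, _, γ, W, _, hγ, hW⟩ := exists_isolating f (χ ≫ f) χ rfl
  obtain ⟨_, ⟨V₀, hV₀, rfl⟩, hγV₀, -⟩ := V.isBasis_affineOpens.exists_subset_of_mem_open
    (Set.mem_univ (pt γ)) isOpen_univ
  obtain ⟨φ, ⟨hφ, hφW⟩, hφχ⟩ := hW.ge (show χ ∈ ({χ} : Set _) from rfl)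
  let ι₀ : (Scheme.Opens.toScheme (V₀ : V.Opens)) ⟶ V := Scheme.Opens.ι V₀
  haveI : IsAffine (Scheme.Opens.toScheme (V₀ : V.Opens)) := hV₀
  let W₀ := bc f (h := ι₀ ≫ g) ι₀ rfl ⁻¹ᵁ W
  haveI : IsFinite (W₀.ι ≫ pullback.snd f (ι₀ ≫ g)) := isFinite_bc f ι₀ rfl W
  obtain ⟨F, hF, hlev⟩ := exists_values hw (ι₀ ≫ g) W₀
  let γ₀ := IsOpenImmersion.lift ι₀ γ (by
    rw [range_eq_pt, Set.singleton_subset_iff, Scheme.Opens.range_ι]; exact hγV₀)
  have hχW₀ : χ ∈ lifts f (ι₀ ≫ g) W₀ γ₀ := by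
    rw [lifts_bc, IsOpenImmersion.lift_fac, hW]; exact rfl
  obtain ⟨ψ, ⟨hψ, hψW⟩, hψχ⟩ := hχW₀
  let q₀ : (W₀ : Scheme.{u}) ⟶ X := W₀.ι ≫ pullback.fst f (ι₀ ≫ g)
  obtain ⟨U, hU, hxU, hUq⟩ : ∃ U : X.Opens, IsAffineOpen U ∧ pt χ ∈ U ∧ (U : Set X) ⊆ Set.range q₀ := by
    obtain ⟨_, ⟨U, hU, rfl⟩, hxU, hUq⟩ := X.isBasis_affineOpens.exists_subset_of_mem_open
      (show pt χ ∈ Set.range q₀ from ⟨⟨pt ψ, hψW⟩, by
        have := congrArg pt hψχ
        rw [pt_comp] at this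
        rw [Scheme.Hom.comp_apply]; exact this⟩) q₀.isOpenMap.isOpen_range
    exact ⟨U, hU, hxU, hUq⟩
  haveI : IsAffine (U : Scheme.{u}) := hU
  -- a quasi-compact open of `W₀` covering `U`
  have hsub : ∀ z : U, ∃ B : (W₀ : Scheme.{u}).Opens, IsAffineOpen B ∧ B ≤ q₀ ⁻¹ᵁ U ∧ z.1 ∈ q₀ '' ↑B := by
    rintro ⟨z, hz⟩
    obtain ⟨p, rfl⟩ := hUq hz
    obtain ⟨_, ⟨B, hB, rfl⟩, hpB, hBU⟩ :=
      (W₀ : Scheme.{u}).isBasis_affineOpens.exists_subset_of_mem_open hz (q₀ ⁻¹ᵁ U).2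
    exact ⟨B, hB, hBU, p, hpB, rfl⟩
  choose B hB hBU hBz using hsub
  obtain ⟨t, ht⟩ := hU.isCompact.elim_finite_subcover (fun z => q₀ '' ↑(B z))
    (fun z => q₀.isOpenMap _ (B z).2) fun z hz => Set.mem_iUnion.2 ⟨⟨z, hz⟩, hBz _⟩
  let W₁ : (W₀ : Scheme.{u}).Opens := ⨆ z ∈ t, B z
  have hW₁U : W₁ ≤ q₀ ⁻¹ᵁ U := iSup₂_le fun z _ => hBU z
  haveI : CompactSpace (W₁ : Scheme.{u}) := isCompact_iff_compactSpace.1 (by
    simpa [W₁] using t.isCompact_biUnion fun z _ => (hB z).isCompact)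
  let r : (W₁ : Scheme.{u}) ⟶ U := q₀.resLE U W₁ hW₁U
  haveI : QuasiCompact r := (quasiCompact_iff_compactSpace r).2 inferInstance
  haveI : LocallyOfFinitePresentation r := inferInstance
  have hr : ∀ p, (r p).1 = q₀ p.1 := fun p =>
    congrArg (fun φ => φ p) (Scheme.Hom.resLE_comp_ι q₀ hW₁U)
  have hsurj : ∀ z : U, ∃ p, r p = z := fun z => by
    obtain ⟨i, hi, p, hp, hpz⟩ : ∃ i ∈ t, z.1 ∈ q₀ '' ↑(B i) := by simpa using ht z.2
    have hp' : p ∈ W₁ := TopologicalSpace.Opens.mem_iSup.2 ⟨i, TopologicalSpace.Opens.mem_iSup.2 ⟨hi, hp⟩⟩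
    exact ⟨⟨p, hp'⟩, Subtype.ext ((hr _).trans hpz)⟩
  refine ⟨U, F, hxU, hU, fun z hz => ?_, fun n => ?_⟩
  · obtain ⟨p, hp⟩ := hsurj ⟨z, hz⟩
    have := congrArg Subtype.val hp
    rw [hr, Scheme.Hom.comp_apply] at this
    change _ = z at this
    rw [← this]; exact hF p.1
  · have : ((U : Set X) ↓∩ {z | w z = n}) =
        r '' (W₁.ι ⁻¹' {p : W₀ | w (pullback.fst f (ι₀ ≫ g) (W₀.ι p)) = n}) := by
      ext z
      constructor
      · intro hz
        obtain ⟨p, rfl⟩ := hsurj z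
        refine ⟨p, ?_, rfl⟩
        change w ((r p).1) = n at hz
        rwa [hr, Scheme.Hom.comp_apply] at hz
      · rintro ⟨p, hp, rfl⟩
        change w ((r p).1) = n
        rw [hr, Scheme.Hom.comp_apply]
        exact hp
    rw [this]
    exact r.isConstructible_image (W₁.ι.isConstructible_preimage (hlev n))

/-- Level sets of a weighting are locally constructible. -/
theorem isLocallyConstructible_level {X Y : Scheme.{u}} {f : X ⟶ Y} [LocallyQuasiFinite f]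
    [LocallyOfFiniteType f] {w : X → ℤ} (hw : MoreMor.IsWeighting f w) (n : ℤ) :
    IsLocallyConstructible {x : X | w x = n} := by
  intro x
  obtain ⟨U, F, hxU, -, -, hlev⟩ := exists_nhd_values hw x
  exact ⟨U, U.2.mem_nhds hxU, U.2, hlev n⟩

/-- On a quasi-compact source the fibre integral is bounded. -/
theorem bddAbove_fibreIntegral {X Y : Scheme.{u}} {f : X ⟶ Y} [LocallyQuasiFinite f]
    [LocallyOfFiniteType f] [CompactSpace X] {w : X → ℤ} (hw : MoreMor.IsWeighting f w) :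
    ∃ M : ℤ, ∀ y, MoreMor.fibreIntegral f w y ≤ M := by
  classical
  choose U F hxU _ hF _ using exists_nhd_values hw
  have hpiece : ∀ x : X, ∃ (B : X.Opens) (m : ℕ), x ∈ B ∧ B ≤ U x ∧
      ∀ (Ω : Type u) [Field Ω] (γ : Spec (CommRingCat.of Ω) ⟶ Y)
        (T : Finset (Spec (CommRingCat.of Ω) ⟶ X)), (∀ φ ∈ T, φ ≫ f = γ ∧ pt φ ∈ B) → T.card ≤ m := by
    intro x
    obtain ⟨_, ⟨Y₀, hY₀, rfl⟩, hxY₀, -⟩ := Y.isBasis_affineOpens.exists_subset_of_mem_open
      (Set.mem_univ (f x)) isOpen_univ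
    obtain ⟨_, ⟨B, hB, rfl⟩, hxB, hBle⟩ := X.isBasis_affineOpens.exists_subset_of_mem_open
      (show x ∈ U x ⊓ f ⁻¹ᵁ Y₀ from ⟨hxU x, hxY₀⟩) (U x ⊓ f ⁻¹ᵁ Y₀).2
    have hBY : B ≤ f ⁻¹ᵁ Y₀ := fun z hz => (hBle hz).2
    have hft : (f.appLE Y₀ B hBY).hom.FiniteType := f.finiteType_appLE hY₀ hB hBY
    have hqf : (f.appLE Y₀ B hBY).hom.QuasiFinite :=
      HasRingHomProperty.appLE (P := @LocallyQuasiFinite) f inferInstance ⟨Y₀, hY₀⟩ ⟨B, hB⟩ hBY
    algebraize [(f.appLE Y₀ B hBY).hom]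
    haveI : Algebra.QuasiFinite Γ(Y, Y₀) Γ(X, B) := RingHom.quasiFinite_algebraMap.1 hqf
    obtain ⟨m, hm⟩ := exists_bound_algHom (B := Γ(Y, Y₀)) (A := Γ(X, B))
    refine ⟨B, m, hxB, fun z hz => (hBle hz).1, fun Ω _ γ T hT => ?_⟩
    rcases T.eq_empty_or_nonempty with rfl | ⟨φ₀, hφ₀⟩
    · simp
    have hb : ∀ φ ∈ T, ∃ b : Γ(X, B) ⟶ CommRingCat.of Ω, Spec.map b ≫ hB.fromSpec = φ := fun φ hφ => by
      have hr : Set.range φ ⊆ Set.range hB.fromSpec := by
        rw [range_eq_pt, Set.singleton_subset_iff, IsAffineOpen.range_fromSpec]; exact (hT φ hφ).2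
      exact ⟨Spec.preimage (IsOpenImmersion.lift hB.fromSpec φ hr),
        by rw [Spec.map_preimage, IsOpenImmersion.lift_fac]⟩
    choose b hb using hb
    letI : Algebra Γ(Y, Y₀) Ω := (f.appLE Y₀ B hBY ≫ b φ₀ hφ₀).hom.toAlgebra
    have hcomm : ∀ φ (hφ : φ ∈ T), f.appLE Y₀ B hBY ≫ b φ hφ = f.appLE Y₀ B hBY ≫ b φ₀ hφ₀ := by
      intro φ hφ
      rw [← Spec.map_inj, ← cancel_mono hY₀.fromSpec]
      simp only [Spec.map_comp, Category.assoc, IsAffineOpen.SpecMap_appLE_fromSpec f hY₀ hB hBY,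
        ← Category.assoc (Spec.map (b _ _)), hb]
      rw [(hT φ hφ).1, (hT φ₀ hφ₀).1]
    let toHom : T → (Γ(X, B) →ₐ[Γ(Y, Y₀)] Ω) := fun φ => ⟨(b φ.1 φ.2).hom, fun r =>
      DFunLike.congr_fun (congrArg CommRingCat.Hom.hom (hcomm φ.1 φ.2)) r⟩
    have hinj : Function.Injective toHom := fun φ φ' h => Subtype.ext <| by
      rw [← hb φ.1 φ.2, ← hb φ'.1 φ'.2, show b φ.1 φ.2 = b φ'.1 φ'.2 from
        CommRingCat.hom_ext (congrArg AlgHom.toRingHom h)]
    calc T.card = (T.attach.image toHom).card := by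
          rw [Finset.card_image_of_injective _ hinj, Finset.card_attach]
      _ ≤ m := hm Ω _
  choose B m hxB hBU hm using hpiece
  obtain ⟨t, ht⟩ := isCompact_univ.elim_finite_subcover (fun x => (B x : Set X)) (fun x => (B x).2)
    fun x _ => Set.mem_iUnion.2 ⟨x, hxB x⟩
  refine ⟨(∑ x ∈ t, m x) * (∑ n ∈ t.biUnion F, |n|), fun y => ?_⟩
  obtain ⟨Ω, _, _, γ, rfl⟩ : ∃ (Ω : Type u) (_ : Field Ω) (_ : IsAlgClosed Ω)
      (γ : Spec (CommRingCat.of Ω) ⟶ Y), pt γ = y := ⟨_, _, inferInstance, _, pt_geoPt Y y⟩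
  rw [fibreIntegral_eq f w γ]
  have hnn : 0 ≤ ∑ n ∈ t.biUnion F, |n| := Finset.sum_nonneg fun n _ => abs_nonneg n
  by_cases hfinS : (geoFib f γ Set.univ ∩ Function.support fun φ => w (pt φ)).Finite
  · rw [finsum_mem_eq_sum_of_inter_support_eq _ (t := hfinS.toFinset) (by simp)]
    set T := hfinS.toFinset with hTdef
    have hcard : T.card ≤ ∑ x ∈ t, m x := by
      calc T.card ≤ (t.biUnion fun x => T.filter fun φ => pt φ ∈ B x).card := by
            refine Finset.card_le_card fun φ hφ => ?_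
            obtain ⟨x, hx, hφx⟩ : ∃ x ∈ t, pt φ ∈ B x := by simpa using ht (Set.mem_univ (pt φ))
            exact Finset.mem_biUnion.2 ⟨x, hx, Finset.mem_filter.2 ⟨hφ, hφx⟩⟩
        _ ≤ ∑ x ∈ t, (T.filter fun φ => pt φ ∈ B x).card := Finset.card_biUnion_le
        _ ≤ ∑ x ∈ t, m x := Finset.sum_le_sum fun x _ => hm x Ω γ _ fun φ hφ => by
            rw [Finset.mem_filter, hTdef, Set.Finite.mem_toFinset] at hφ
            exact ⟨hφ.1.1.1, hφ.2⟩
    refine (Finset.sum_le_card_nsmul _ _ (∑ n ∈ t.biUnion F, |n|) fun φ _ => ?_).trans ?_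
    · obtain ⟨x, hx, hφx⟩ : ∃ x ∈ t, pt φ ∈ B x := by simpa using ht (Set.mem_univ (pt φ))
      exact (le_abs_self _).trans (Finset.single_le_sum (f := fun n : ℤ => |n|)
        (fun n _ => abs_nonneg n) (Finset.mem_biUnion.2 ⟨x, hx, hF x _ (hBU x hφx)⟩))
    · rw [nsmul_eq_mul]
      exact mul_le_mul_of_nonneg_right (by exact_mod_cast hcard) hnn
  · rw [finsum_mem_eq_zero_of_infinite hfinS]
    exact mul_nonneg (Int.natCast_nonneg _) hnn

/-- ... and attains its maximum. -/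
theorem exists_max_fibreIntegral {X Y : Scheme.{u}} {f : X ⟶ Y} [LocallyQuasiFinite f]
    [LocallyOfFiniteType f] [CompactSpace X] [Nonempty Y] {w : X → ℤ} (hw : MoreMor.IsWeighting f w) :
    ∃ y₀ : Y, ∀ y : Y, MoreMor.fibreIntegral f w y ≤ MoreMor.fibreIntegral f w y₀ := by
  obtain ⟨M, hM⟩ := bddAbove_fibreIntegral hw
  obtain ⟨_, ⟨y₀, rfl⟩, hmax⟩ := Int.exists_greatest_of_bdd
    (P := fun z => ∃ y, MoreMor.fibreIntegral f w y = z) ⟨M, fun z ⟨y, hy⟩ => hy ▸ hM y⟩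
    ⟨_, Classical.arbitrary Y, rfl⟩
  exact ⟨y₀, fun y => hmax _ ⟨y, rfl⟩⟩

end Groth.Agent.Weighting
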